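import Groth.Agent.Sga4h.H569.CohRings

/-!
# The `q`-power map on `H^n(Y, O_Y)`
-/

set_option autoImplicit false
set_option linter.unusedSectionVars false

universe u

open CategoryTheory CategoryTheory.Limits AlgebraicGeometry Opposite TopologicalSpace

namespace Groth.Agent.Sga4h.H569.CohFrob

open Groth.Agent.Sga4h.H569.CohRings Groth.Agent.Sga4h.H569.CurveAlg

attribute [local instance] algΓ

/-- the `q`-power map on `O_Y` -/
noncomputable def qPow (k : Type u) [Field k] [Fintype k] (Y : Scheme.{u}) [Y.Over (Spec (CommRingCat.of k))] :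
    Coh.toAb (Coh.structureModule Y) ⟶ Coh.toAb (Coh.structureModule Y) :=
  ⟨{ app := fun V => AddCommGrpCat.ofHom ((frob k Γ(Y, V.unop)).toAddMonoidHom : Γ(Y, V.unop) →+ Γ(Y, V.unop))
     naturality := by
      intro U V f
      ext s
      exact ((Y.presheaf.map f).hom.map_pow (s : Γ(Y, U.unop)) (Fintype.card k)).symm }⟩

variable {k : Type u} [Field k] [Fintype k] {Y : Scheme.{u}} [Y.Over (Spec (CommRingCat.of k))]

theorem secMap_qPow (V : Y.Opens) (t : Γ(Y, V)) : secMap (qPow k Y) V t = t ^ Fintype.card k := rfl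

/-- a morphism with the values of the `q`-power map commutes with scalars -/
theorem smulAb_comp (φ : Coh.toAb (Coh.structureModule Y) ⟶ Coh.toAb (Coh.structureModule Y))
    (hφ : ∀ (V : Y.Opens) (t : Γ(Y, V)), secMap φ V t = t ^ Fintype.card k) (c : k) :
    Coh.smulAb (Coh.structureModule Y) (Coh.toGlobal (Y ↘ Spec (CommRingCat.of k)) c) ≫ φ =
      φ ≫ Coh.smulAb (Coh.structureModule Y) (Coh.toGlobal (Y ↘ Spec (CommRingCat.of k)) c) := by
  have key : ∀ (V : Y.Opens) (s : Γ(Y, V)), secMap φ V (c • s) = c • secMap φ V s := by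
    intro V s
    rw [hφ, hφ]
    exact map_smul (frob k Γ(Y, V)) c s
  ext V s
  exact key V.unop s

theorem mapHk_smul (φ : Coh.toAb (Coh.structureModule Y) ⟶ Coh.toAb (Coh.structureModule Y))
    (hφ : ∀ (V : Y.Opens) (t : Γ(Y, V)), secMap φ V t = t ^ Fintype.card k) (n : ℕ) (c : k) (x : Hk k Y n) :
    mapHk k φ n (c • x) = c • mapHk k φ n x := by
  change Sheaf.H.map φ n (Sheaf.H.map (Coh.smulAb (Coh.structureModule Y)
    (Coh.toGlobal (Y ↘ Spec (CommRingCat.of k)) c)) n x) = Sheaf.H.map (Coh.smulAb (Coh.structureModule Y)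
    (Coh.toGlobal (Y ↘ Spec (CommRingCat.of k)) c)) n (Sheaf.H.map φ n x)
  rw [← Sheaf.H.map_comp_apply, ← Sheaf.H.map_comp_apply, smulAb_comp φ hφ]

/-- the `q`-power map on `H^n(Y, O_Y)` -/
noncomputable def T (φ : Coh.toAb (Coh.structureModule Y) ⟶ Coh.toAb (Coh.structureModule Y))
    (hφ : ∀ (V : Y.Opens) (t : Γ(Y, V)), secMap φ V t = t ^ Fintype.card k) (n : ℕ) : Hk k Y n →ₗ[k] Hk k Y n where
  toFun := mapHk k φ n
  map_add' := map_add _
  map_smul' := mapHk_smul φ hφ n

theorem T_apply (φ : Coh.toAb (Coh.structureModule Y) ⟶ Coh.toAb (Coh.structureModule Y))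
    (hφ : ∀ (V : Y.Opens) (t : Γ(Y, V)), secMap φ V t = t ^ Fintype.card k) (n : ℕ) (x : Hk k Y n) :
    T φ hφ n x = mapHk k φ n x := rfl

end Groth.Agent.Sga4h.H569.CohFrob
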