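import Groth.Agent.Sga4h.H569.CurvePts
import Groth.Agent.Dix.TwoChart
import Groth.Agent.CurvesC.GenPt
import Groth.Agent.PerfA.QCohSerre

/-!
# `H^i(Y, O_Y)` with Frobenius in terms of the rings of an affine cover by two opens

`Hk k Y n` is `Coh.HH Y (Coh.structureModule Y) n` with its structure of `k`-module (a definition, to keep the
kernel fast).
-/

set_option autoImplicit false
set_option linter.unusedSectionVars false

universe u

open CategoryTheory CategoryTheory.Limits AlgebraicGeometry Opposite TopologicalSpace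

namespace Groth.Agent.Sga4h.H569.CohRings

open Groth.Agent.Sga4h.H569.CurvePts Groth.Agent.Sga4h.H569.CurveAlg Groth.Agent.Sga4h.H569.DetRev
open Groth.Agent.CohqA Groth.Agent.FormalB Groth.Agent.Dix

/-- `H^n(Y, O_Y)` -/
noncomputable def Hk (k : Type u) [Field k] (Y : Scheme.{u}) [Y.Over (Spec (CommRingCat.of k))] (n : ℕ) : Type u :=
  Coh.HH Y (Coh.structureModule Y) n

noncomputable instance addHk (k : Type u) [Field k] (Y : Scheme.{u}) [Y.Over (Spec (CommRingCat.of k))] (n : ℕ) :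
    AddCommGroup (Hk k Y n) :=
  (inferInstance : AddCommGroup (Coh.HH Y (Coh.structureModule Y) n))

noncomputable instance modHk (k : Type u) [Field k] (Y : Scheme.{u}) [Y.Over (Spec (CommRingCat.of k))] (n : ℕ) :
    Module k (Hk k Y n) :=
  (inferInstance : Module k (Coh.HH Y (Coh.structureModule Y) n))

variable {k : Type u} [Field k] {Y : Scheme.{u}} [Y.Over (Spec (CommRingCat.of k))]

/-- the endomorphism of `H^n(Y, O)` induced by an additive endomorphism of `O` -/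
noncomputable def mapHk (k : Type u) [Field k] {Y : Scheme.{u}} [Y.Over (Spec (CommRingCat.of k))]
    (φ : Coh.toAb (Coh.structureModule Y) ⟶ Coh.toAb (Coh.structureModule Y)) (n : ℕ) : Hk k Y n →+ Hk k Y n :=
  Sheaf.H.map φ n

/-- the `k`-algebra structure on sections -/
noncomputable abbrev algΓ (k : Type u) [Field k] (Y : Scheme.{u}) [Y.Over (Spec (CommRingCat.of k))]
    (V : Y.Opens) : Algebra k Γ(Y, V) :=
  (kΓ (Y ↘ Spec (CommRingCat.of k)) V).toAlgebra

attribute [local instance] algΓ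

theorem algebraMap_eq (V : Y.Opens) (c : k) :
    algebraMap k Γ(Y, V) c = kΓ (Y ↘ Spec (CommRingCat.of k)) V c := rfl

/-- restriction as a `k`-algebra homomorphism -/
noncomputable def resA (k : Type u) [Field k] [Y.Over (Spec (CommRingCat.of k))] {V W : Y.Opens} (h : V ≤ W) :
    Γ(Y, W) →ₐ[k] Γ(Y, V) :=
  { (Y.presheaf.map (homOfLE h).op).hom with
    commutes' := fun c => map_kΓ _ _ c }

theorem resA_apply {V W : Y.Opens} (h : V ≤ W) (s : Γ(Y, W)) :
    resA k h s = (Y.presheaf.map (homOfLE h).op).hom s := rfl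

theorem resA_injective [IsIntegral Y] {V W : Y.Opens} [Nonempty V] (h : V ≤ W) :
    Function.Injective (resA k h : Γ(Y, W) →ₐ[k] Γ(Y, V)) :=
  map_injective_of_isIntegral Y (homOfLE h)

theorem resA_resA {V W T : Y.Opens} (h : V ≤ W) (h' : W ≤ T) (s : Γ(Y, T)) :
    resA k h (resA k h' s) = resA k (h.trans h') s := by
  change (Y.presheaf.map _ ≫ Y.presheaf.map _).hom s = _
  rw [← Functor.map_comp]; rfl

variable {U W : Y.Opens} (hcov : U ⊔ W = ⊤)

/-- the subalgebra of sections extending to `U` -/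
noncomputable abbrev A₁ (k : Type u) [Field k] [Y.Over (Spec (CommRingCat.of k))] (U W : Y.Opens) :
    Subalgebra k Γ(Y, U ⊓ W) := (resA k (inf_le_left : U ⊓ W ≤ U)).range

/-- the subalgebra of sections extending to `W` -/
noncomputable abbrev A₂ (k : Type u) [Field k] [Y.Over (Spec (CommRingCat.of k))] (U W : Y.Opens) :
    Subalgebra k Γ(Y, U ⊓ W) := (resA k (inf_le_right : U ⊓ W ≤ W)).range

/-- the connecting map, additively -/
noncomputable def deltaA (k : Type u) [Field k] [Y.Over (Spec (CommRingCat.of k))] {U W : Y.Opens}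
    (hcov : U ⊔ W = ⊤) : Γ(Y, U ⊓ W) →+ Hk k Y 1 :=
  TwoChart.delta hcov (Coh.structureModule Y)

theorem deltaA_smul (c : k) (s : Γ(Y, U ⊓ W)) : deltaA k hcov (c • s) = c • deltaA k hcov s :=
  TwoChart.delta_smul hcov (Coh.structureModule Y) (Coh.toGlobal (Y ↘ Spec (CommRingCat.of k)) c) s

theorem deltaA_eq_zero_iff (s : Γ(Y, U ⊓ W)) : deltaA k hcov s = 0 ↔
    ∃ (a : Γ(Y, U)) (b : Γ(Y, W)), resA k (inf_le_left : U ⊓ W ≤ U) a - resA k (inf_le_right : U ⊓ W ≤ W) b = s :=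
  TwoChart.delta_eq_zero_iff hcov (Coh.structureModule Y) s

theorem deltaA_surjective (hU : IsAffineOpen U) (hW : IsAffineOpen W) :
    Function.Surjective (deltaA k hcov) :=
  TwoChart.delta_surjective hcov _ (Groth.Agent.PerfA.QCohSerre.isQCoh_unit Y) hU hW

/-- the connecting map as a `k`-linear map -/
noncomputable def deltaL (k : Type u) [Field k] [Y.Over (Spec (CommRingCat.of k))] {U W : Y.Opens}
    (hcov : U ⊔ W = ⊤) : Γ(Y, U ⊓ W) →ₗ[k] Hk k Y 1 where
  toFun s := deltaA k hcov s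
  map_add' s t := map_add _ s t
  map_smul' c s := deltaA_smul hcov c s

theorem deltaL_apply (s : Γ(Y, U ⊓ W)) : deltaL k hcov s = deltaA k hcov s := rfl

theorem ker_deltaL : LinearMap.ker (deltaL k hcov) =
    Subalgebra.toSubmodule (A₁ k U W) ⊔ Subalgebra.toSubmodule (A₂ k U W) := by
  ext s
  rw [LinearMap.mem_ker, deltaL_apply, deltaA_eq_zero_iff, Submodule.mem_sup]
  constructor
  · rintro ⟨a, b, hab⟩
    refine ⟨resA k inf_le_left a, ⟨a, rfl⟩, -resA k inf_le_right b, ⟨-b, map_neg _ _⟩, ?_⟩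
    rw [← sub_eq_add_neg]
    exact hab
  · rintro ⟨_, ⟨a, rfl⟩, _, ⟨b, rfl⟩, hab⟩
    refine ⟨a, -b, ?_⟩
    rw [map_neg, sub_neg_eq_add]
    exact hab

/-- `Γ(U ∩ W) / (Γ(U) + Γ(W)) = H^1(Y, O_Y)` -/
noncomputable def equivH1 (hU : IsAffineOpen U) (hW : IsAffineOpen W) :
    (Γ(Y, U ⊓ W) ⧸ (Subalgebra.toSubmodule (A₁ k U W) ⊔ Subalgebra.toSubmodule (A₂ k U W))) ≃ₗ[k] Hk k Y 1 :=
  (Submodule.quotEquivOfEq _ _ (ker_deltaL hcov).symm).trans
    ((deltaL k hcov).quotKerEquivOfSurjective (deltaA_surjective hcov hU hW))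

theorem equivH1_mk (hU : IsAffineOpen U) (hW : IsAffineOpen W) (s : Γ(Y, U ⊓ W)) :
    equivH1 (k := k) hcov hU hW (Submodule.Quotient.mk s) = deltaA k hcov s := rfl

section Frob

variable (φ : Coh.toAb (Coh.structureModule Y) ⟶ Coh.toAb (Coh.structureModule Y))

/-- the effect of `φ` on sections -/
noncomputable def secMap (φ : Coh.toAb (Coh.structureModule Y) ⟶ Coh.toAb (Coh.structureModule Y)) (V : Y.Opens) :
    Γ(Y, V) →+ Γ(Y, V) := (φ.hom.app (op V)).hom

theorem mapHk_deltaA (s : Γ(Y, U ⊓ W)) :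
    mapHk k φ 1 (deltaA k hcov s) = deltaA k hcov (secMap φ (U ⊓ W) s) := by
  apply (SheafH.HEquivHU (Coh.toAb (Coh.structureModule Y)) 1 (isTerminalTop (α := Opens Y))).injective
  refine (SheafH.HEquivHU_map φ 1 _ _).trans ?_
  refine Eq.trans (congrArg _ ((SheafH.HEquivHU (Coh.toAb (Coh.structureModule Y)) 1
    (isTerminalTop (α := Opens Y))).apply_symm_apply _)) ?_
  refine Eq.trans ?_ ((SheafH.HEquivHU (Coh.toAb (Coh.structureModule Y)) 1
    (isTerminalTop (α := Opens Y))).apply_symm_apply _).symm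
  exact TwoChart.deltaTop_map (X := Y.toTopCat) (W := (⊤ : Opens Y)) hcov.symm φ s

/-- `H^0(Y, O_Y) = Γ(Y, ⊤)`, additively -/
noncomputable def H0add (k : Type u) [Field k] (Y : Scheme.{u}) [Y.Over (Spec (CommRingCat.of k))] :
    Hk k Y 0 ≃+ Γ(Y, ⊤) :=
  (SheafH.HEquivHU (Coh.toAb (Coh.structureModule Y)) 0 (isTerminalTop (α := Opens Y))).trans
    (SheafH.H0 (Coh.toAb (Coh.structureModule Y)) (⊤ : Opens Y))

theorem H0add_map (x : Hk k Y 0) : H0add k Y (mapHk k φ 0 x) = secMap φ ⊤ (H0add k Y x) := by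
  refine (congrArg (SheafH.H0 (Coh.toAb (Coh.structureModule Y)) (⊤ : Opens Y))
    (SheafH.HEquivHU_map φ 0 _ _)).trans ?_
  exact SheafH.H0_map φ _ _

theorem H0add_smul (c : k) (x : Hk k Y 0) : H0add k Y (c • x) = c • H0add k Y x := by
  refine (H0add_map (Coh.smulAb (Coh.structureModule Y)
    (Coh.toGlobal (Y ↘ Spec (CommRingCat.of k)) c)) x).trans ?_
  rfl

/-- `H^0(Y, O_Y) = Γ(Y, ⊤)`, `k`-linearly -/
noncomputable def H0L (k : Type u) [Field k] (Y : Scheme.{u}) [Y.Over (Spec (CommRingCat.of k))] :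
    Hk k Y 0 ≃ₗ[k] Γ(Y, ⊤) :=
  { H0add k Y with
    map_smul' := fun c x => H0add_smul c x }

theorem H0L_apply (x : Hk k Y 0) : H0L k Y x = H0add k Y x := rfl

/-- `Γ(Y, ⊤) = A₁ ∩ A₂` -/
noncomputable def equivTop [IsIntegral Y] [Nonempty (U ⊓ W : Y.Opens)] (hcov : U ⊔ W = ⊤) :
    Γ(Y, ⊤) ≃ₐ[k] (A₁ k U W ⊓ A₂ k U W : Subalgebra k Γ(Y, U ⊓ W)) :=
  AlgEquiv.ofBijective ((resA k (le_top : U ⊓ W ≤ ⊤)).codRestrict _ (fun s =>
    ⟨⟨resA k le_top s, resA_resA _ _ _⟩, ⟨resA k le_top s, resA_resA _ _ _⟩⟩)) (by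
    constructor
    · intro s t h
      exact resA_injective (k := k) (le_top : U ⊓ W ≤ ⊤) (congrArg Subtype.val h)
    · rintro ⟨_, ⟨a, rfl⟩, ⟨b, hb⟩⟩
      obtain ⟨t, ht, -⟩ := Groth.Agent.CurvesC.GenPt.exists_glue_two_function hcov a b hb.symm
      refine ⟨t, Subtype.ext ?_⟩
      have h1 : resA k (le_top : U ≤ ⊤) t = a := ht
      change resA k (le_top : U ⊓ W ≤ ⊤) t = resA k (inf_le_left : U ⊓ W ≤ U) a
      rw [← h1, resA_resA])

end Frob

end Groth.Agent.Sga4h.H569.CohRings
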