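import Groth.Agent.Sga4h.H569.CurveAlg
import Mathlib.LinearAlgebra.Charpoly.ToMatrix
import Mathlib.LinearAlgebra.Matrix.Charpoly.Minpoly
import Mathlib.LinearAlgebra.Charpoly.Basic
import Mathlib.RingTheory.Ideal.Quotient.Index
import Mathlib.RingTheory.Ideal.Operations
import Mathlib.RingTheory.Noetherian.Nilpotent

/-!
# Commutative algebra for the zeta function modulo `p` of a curve

* `detRev_frob_field` : `det(1 - X Frob | F) = 1 - X^[F:k]` for a finite extension `F` of the finite field `k`;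
* `detRev_frob_iInf` : `det(1 - X Frob | R / ⋂ mᵢ)` is the product of the `det(1 - X Frob | R / mᵢ)`;
* `span_eq_top` : the elements `b^(q^n) - b` generate the unit ideal if there are no residue fields of degree `≤ n`;
* `main'` : the determinant identity.
-/

set_option autoImplicit false
set_option linter.unusedSectionVars false

namespace Groth.Agent.Sga4h.H569.CommAlg

open Polynomial
open Groth.Agent.Sga4h.H569.DetRev Groth.Agent.Sga4h.H569.CurveAlg

universe u v w

variable {k : Type u} [Field k] [Fintype k]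

theorem detRev_frob_field (F : Type v) [Field F] [Algebra k F] [FiniteDimensional k F] :
    detRev (frob k F) = 1 - X ^ Module.finrank k F := by
  classical
  have : Finite F := Module.finite_of_finite k
  let b := Module.finBasis k F
  have h1 : minpoly k (frob k F) = X ^ Module.finrank k F - 1 := FiniteField.minpoly_frobeniusAlgHom k F
  have h0 : (X ^ Module.finrank k F - 1 : k[X]).natDegree = Module.finrank k F := by
    rw [← C_1, natDegree_X_pow_sub_C]
  have h2 : minpoly k (frob k F) ∣ (frob k F).charpoly := LinearMap.minpoly_dvd_charpoly _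
  have hd : 0 < Module.finrank k F := Module.finrank_pos
  have h3 : (frob k F).charpoly = X ^ Module.finrank k F - 1 := by
    rw [← h1]
    refine eq_of_monic_of_dvd_of_natDegree_le (minpoly.monic (Algebra.IsIntegral.isIntegral _))
      (LinearMap.charpoly_monic _) h2 ?_
    rw [LinearMap.charpoly_natDegree, h1, h0]
  rw [detRev_eq b, ← Matrix.reverse_charpoly, LinearMap.charpoly_toMatrix, h3, reverse,
    h0, reflect_sub, reflect_monomial, reflect_one,
    revAt_le le_rfl, Nat.sub_self, pow_zero]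

theorem frob_comm {A B : Type*} [CommRing A] [Algebra k A] [CommRing B] [Algebra k B] (f : A →ₐ[k] B) (x : A) :
    f (frob k A x) = frob k B (f x) := map_pow f x _

theorem detRev_frob_algEquiv {A B : Type*} [CommRing A] [Algebra k A] [CommRing B] [Algebra k B]
    [FiniteDimensional k A] (e : A ≃ₐ[k] B) : detRev (frob k A) = detRev (frob k B) :=
  detRev_conj e.toLinearEquiv _ _ fun x => frob_comm e.toAlgHom x

theorem detRev_frob_prod {A B : Type*} [CommRing A] [Algebra k A] [CommRing B] [Algebra k B]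
    [FiniteDimensional k A] [FiniteDimensional k B] :
    detRev (frob k (A × B)) = detRev (frob k A) * detRev (frob k B) := by
  refine detRev_exact (LinearMap.inl k A B) (LinearMap.snd k A B) (frob k A) (frob k (A × B)) (frob k B)
    LinearMap.inl_injective LinearMap.snd_surjective ?_ ?_ ?_
  · intro y
    constructor
    · intro h
      exact ⟨y.1, Prod.ext rfl h.symm⟩
    · rintro ⟨x, rfl⟩; rfl
  · refine LinearMap.ext fun x => ?_
    refine Prod.ext rfl ?_
    change (0 : B) = (0 : B) ^ Fintype.card k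
    rw [zero_pow Fintype.card_ne_zero]
  · ext x <;> rfl

section Inf

variable {R : Type v} [CommRing R] [Algebra k R]

theorem detRev_frob_inf (I J : Ideal R) (h : IsCoprime I J) [FiniteDimensional k (R ⧸ I)]
    [FiniteDimensional k (R ⧸ J)] :
    FiniteDimensional k (R ⧸ (I ⊓ J)) ∧
    detRev (frob k (R ⧸ (I ⊓ J))) = detRev (frob k (R ⧸ I)) * detRev (frob k (R ⧸ J)) := by
  let e : (R ⧸ (I ⊓ J)) ≃ₐ[k] (R ⧸ I) × (R ⧸ J) :=
    AlgEquiv.ofRingEquiv (f := Ideal.quotientInfEquivQuotientProd I J h) (fun c => rfl)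
  have : FiniteDimensional k (R ⧸ (I ⊓ J)) := Module.Finite.equiv e.symm.toLinearEquiv
  exact ⟨this, (detRev_frob_algEquiv e).trans detRev_frob_prod⟩

theorem detRev_frob_iInf {ι : Type*} (m : ι → Ideal R) (s : Finset ι)
    (hcop : ∀ i ∈ s, ∀ j ∈ s, i ≠ j → IsCoprime (m i) (m j))
    (hfd : ∀ i ∈ s, FiniteDimensional k (R ⧸ m i)) :
    FiniteDimensional k (R ⧸ (⨅ i ∈ s, m i)) ∧
    detRev (frob k (R ⧸ (⨅ i ∈ s, m i))) = ∏ i ∈ s, detRev (frob k (R ⧸ m i)) := by
  classical
  induction s using Finset.induction_on with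
  | empty =>
    have h1 : (⨅ i ∈ (∅ : Finset ι), m i) = ⊤ := by simp
    have h2 : Subsingleton (R ⧸ (⨅ i ∈ (∅ : Finset ι), m i)) := by
      rw [h1]; exact Ideal.Quotient.subsingleton_iff.mpr rfl
    exact ⟨inferInstance, by rw [detRev_of_subsingleton, Finset.prod_empty]⟩
  | insert a s ha ih =>
    obtain ⟨h1, h2⟩ := ih (fun i hi j hj => hcop i (Finset.mem_insert_of_mem hi) j (Finset.mem_insert_of_mem hj))
      (fun i hi => hfd i (Finset.mem_insert_of_mem hi))
    have h3 : (⨅ i ∈ insert a s, m i) = m a ⊓ ⨅ i ∈ s, m i := Finset.iInf_insert _ _ _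
    have h4 := hfd a (Finset.mem_insert_self _ _)
    have h5 : IsCoprime (m a) (⨅ i ∈ s, m i) := Ideal.isCoprime_biInf fun j hj =>
      hcop a (Finset.mem_insert_self _ _) j (Finset.mem_insert_of_mem hj) (by rintro rfl; exact ha hj)
    obtain ⟨h6, h7⟩ := detRev_frob_inf (k := k) (m a) (⨅ i ∈ s, m i) h5
    rw [h3]
    exact ⟨h6, by rw [h7, h2, Finset.prod_insert ha]⟩

end Inf

/-- The elements `b^(q^n) - b` generate the unit ideal. -/
theorem span_eq_top {R : Type v} [CommRing R] [Algebra k R] (N : ℕ)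
    (hnp : ∀ M : Ideal R, M.IsMaximal → FiniteDimensional k (R ⧸ M) → N < Module.finrank k (R ⧸ M))
    (n : ℕ) (hn : 1 ≤ n) (hnN : n ≤ N) :
    Ideal.span (Set.range fun b : R => b ^ Fintype.card k ^ n - b) = ⊤ := by
  classical
  by_contra h
  obtain ⟨M, hM, hle⟩ := Ideal.exists_le_maximal _ h
  let F := R ⧸ M
  let _ : Field F := Ideal.Quotient.field M
  have hq : 1 < Fintype.card k := Fintype.one_lt_card
  have hQ : 1 < Fintype.card k ^ n := Nat.one_lt_pow (by omega) hq
  have h1 : ∀ x : F, x ^ Fintype.card k ^ n = x := by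
    intro x
    obtain ⟨b, rfl⟩ := Ideal.Quotient.mk_surjective x
    have h2 : b ^ Fintype.card k ^ n - b ∈ M := hle (Ideal.subset_span ⟨b, rfl⟩)
    have h3 := Ideal.Quotient.eq_zero_iff_mem.mpr h2
    rw [map_sub, map_pow, sub_eq_zero] at h3
    exact h3
  have hne : (X ^ (Fintype.card k ^ n) - X : F[X]) ≠ 0 := FiniteField.X_pow_card_sub_X_ne_zero F hQ
  have hfin : Finite F := by
    have h4 : (Set.univ : Set F) ⊆ ((X ^ (Fintype.card k ^ n) - X : F[X]).roots.toFinset : Set F) := by
      intro x _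
      rw [Finset.mem_coe, Multiset.mem_toFinset, mem_roots hne]
      simp [h1 x]
    exact Set.finite_univ_iff.mp (Set.Finite.subset (Finset.finite_toSet _) h4)
  have hcard : Nat.card F ≤ Fintype.card k ^ n := by
    have := Fintype.ofFinite F
    rw [Nat.card_eq_fintype_card, ← Finset.card_univ]
    have h4 : (Finset.univ : Finset F) ⊆ (X ^ (Fintype.card k ^ n) - X : F[X]).roots.toFinset := by
      intro x _
      rw [Multiset.mem_toFinset, mem_roots hne]
      simp [h1 x]
    refine (Finset.card_le_card h4).trans ((Multiset.toFinset_card_le _).trans ((card_roots' _).trans ?_))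
    rw [FiniteField.X_pow_card_sub_X_natDegree_eq F hQ]
  have hFD : FiniteDimensional k (R ⧸ M) := by
    have : Finite (R ⧸ M) := hfin
    exact Module.Finite.of_finite
  have h5 := hnp M hM hFD
  have h6 : Nat.card F = Fintype.card k ^ Module.finrank k (R ⧸ M) := by
    have := Module.natCard_eq_pow_finrank (K := k) (V := R ⧸ M)
    rw [Nat.card_eq_fintype_card (α := k)] at this
    exact this
  rw [h6] at hcard
  have h7 := (Nat.pow_le_pow_iff_right hq).mp hcard
  omega

variable {B : Type v} [CommRing B] [Algebra k B]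

/-- **The determinant identity**, final algebraic form. -/
theorem main' (A₁ A₂ : Subalgebra k B) [IsNoetherianRing A₂] {ι : Type w} [Fintype ι] (m : ι → Ideal A₂)
    (hm : ∀ i, (m i).IsMaximal) (hinj : Function.Injective m) (hfd : ∀ i, FiniteDimensional k (A₂ ⧸ m i))
    (hbdd : ∀ b ∈ A₁, ∀ g : A₂, (∀ i, g ∈ m i) → ∃ n : ℕ, b * (g : B) ^ n ∈ A₂)
    (hfin : FiniteDimensional k (B ⧸ (Subalgebra.toSubmodule A₁ ⊔ Subalgebra.toSubmodule A₂)))
    (hint : ∀ g : A₂, (g : B) ∈ A₁ → (∀ i, g ∈ m i) → g = 0)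
    (N : ℕ)
    (hnp : ∀ M : Ideal A₁, M.IsMaximal → FiniteDimensional k (A₁ ⧸ M) → N < Module.finrank k (A₁ ⧸ M))
    (hP : ∀ x ∈ Subalgebra.toSubmodule A₁ ⊔ Subalgebra.toSubmodule A₂,
      x ^ Fintype.card k ∈ Subalgebra.toSubmodule A₁ ⊔ Subalgebra.toSubmodule A₂) :
    (X : k[X]) ^ (N + 1) ∣ (∏ i, (1 - X ^ Module.finrank k (A₂ ⧸ m i))) *
        detRev (frobQ _ hP) - detRev (frob k (A₁ ⊓ A₂ : Subalgebra k B)) := by
  classical
  let J : Ideal A₂ := ⨅ i ∈ (Finset.univ : Finset ι), m i
  have hJ : ∀ g : A₂, g ∈ J ↔ ∀ i, g ∈ m i := fun g => by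
    simp [J]
  obtain ⟨hJfd, hJdet⟩ := detRev_frob_iInf (k := k) m Finset.univ
    (fun i _ j _ hij => by
      have := hm i
      have := hm j
      exact Ideal.isCoprime_of_isMaximal (fun h => hij (hinj h))) (fun i _ => hfd i)
  have hprod : ∏ i, detRev (frob k (A₂ ⧸ m i)) = ∏ i, (1 - X ^ Module.finrank k (A₂ ⧸ m i)) := by
    refine Finset.prod_congr rfl fun i _ => ?_
    let _ : Field (A₂ ⧸ m i) := @Ideal.Quotient.field _ _ (m i) (hm i)
    exact detRev_frob_field (A₂ ⧸ m i)
  have hfinJ : ∀ s, FiniteDimensional k (A₂ ⧸ ((J ^ s).restrictScalars k : Submodule k A₂)) := by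
    intro s
    have h1 : Finite (A₂ ⧸ J) := Module.finite_of_finite k
    have h2 : Finite (A₂ ⧸ J ^ s) := Ideal.finite_quotient_pow (IsNoetherian.noetherian J) s
    have h3 : FiniteDimensional k (A₂ ⧸ J ^ s) := Module.Finite.of_finite
    exact Module.Finite.equiv (Submodule.Quotient.restrictScalarsEquiv k (J ^ s)).symm
  have hbdd' : ∀ b ∈ A₁, ∃ c, ∀ x ∈ Jp A₂ J c, b * x ∈ A₂ := by
    intro b hb
    let I : Ideal A₂ :=
      { carrier := {x | b * (x : B) ∈ A₂}
        add_mem' := fun {x y} hx hy => by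
          change b * ((x : B) + y) ∈ A₂
          rw [mul_add]; exact A₂.add_mem hx hy
        zero_mem' := by
          change b * (0 : B) ∈ A₂
          rw [mul_zero]; exact A₂.zero_mem
        smul_mem' := fun c x hx => by
          change b * ((c : B) * x) ∈ A₂
          rw [mul_left_comm]; exact A₂.mul_mem c.2 hx }
    have hJI : J ≤ I.radical := by
      intro g hg
      obtain ⟨n, hn⟩ := hbdd b hb g ((hJ g).mp hg)
      exact ⟨n, hn⟩
    obtain ⟨c, hc⟩ := Ideal.exists_pow_le_of_le_radical_of_fg hJI (IsNoetherian.noetherian J)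
    refine ⟨c, ?_⟩
    rintro _ ⟨y, hy, rfl⟩
    exact hc hy
  have hint' : ∀ x ∈ A₁, x ∈ Jp A₂ J 1 → x = 0 := by
    rintro x hx ⟨y, hy, rfl⟩
    have hy' : y ∈ J ^ 1 := hy
    rw [pow_one] at hy'
    have := hint y hx ((hJ y).mp hy')
    rw [this]; rfl
  obtain ⟨hPJ, key⟩ := CurveAlg.main (A₁ := A₁) (A₂ := A₂) (J := J) (N + 1) hbdd' hfin hfinJ hint'
    (fun n hn hn' => span_eq_top N hnp n hn (by omega)) hP
  have hfdJ' : FiniteDimensional k (A₂ ⧸ (J.restrictScalars k : Submodule k A₂)) :=
    Module.Finite.equiv (Submodule.Quotient.restrictScalarsEquiv k J).symm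
  have e1 : detRev ((J.restrictScalars k).mapQ (J.restrictScalars k) (frob k A₂) hPJ) =
      ∏ i, (1 - X ^ Module.finrank k (A₂ ⧸ m i)) := by
    rw [← hprod, ← hJdet]
    refine detRev_conj (Submodule.Quotient.restrictScalarsEquiv k J) _ _ ?_
    intro x
    obtain ⟨x, rfl⟩ := Submodule.Quotient.mk_surjective _ x
    rfl
  rw [e1] at key
  exact key

end Groth.Agent.Sga4h.H569.CommAlg
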