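import Groth.Agent.Sga4h.H569.DetAT
import Mathlib.FieldTheory.Finite.Basic
import Mathlib.RingTheory.Finiteness.Basic

/-!
# The determinant of Frobenius on `A₁ ∩ A₂` and `B / (A₁ + A₂)` (algebra part of the zeta function modulo `p` of a curve)

`k` a finite field with `q` elements, `B` a commutative `k`-algebra, `A₁ A₂` subalgebras of `B`, `J` an ideal of `A₂`.
-/

set_option autoImplicit false
set_option linter.unusedSectionVars false

namespace Groth.Agent.Sga4h.H569.CurveAlg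

open Polynomial
open Groth.Agent.Sga4h.H569.DetRev

universe u v w

section Four

variable {k : Type u} [Field k] {V₁ V₂ V₃ V₄ : Type*} [AddCommGroup V₁] [Module k V₁]
    [AddCommGroup V₂] [Module k V₂] [AddCommGroup V₃] [Module k V₃] [AddCommGroup V₄] [Module k V₄]
    [FiniteDimensional k V₂] [FiniteDimensional k V₃]

/-- four term exact sequences -/
theorem detRev_four (a : V₁ →ₗ[k] V₂) (b : V₂ →ₗ[k] V₃) (c : V₃ →ₗ[k] V₄)
    (φ₁ : V₁ →ₗ[k] V₁) (φ₂ : V₂ →ₗ[k] V₂) (φ₃ : V₃ →ₗ[k] V₃) (φ₄ : V₄ →ₗ[k] V₄)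
    (ha : Function.Injective a) (hab : Function.Exact a b) (hbc : Function.Exact b c)
    (hc : Function.Surjective c)
    (h₁ : ∀ x, a (φ₁ x) = φ₂ (a x)) (h₂ : ∀ x, b (φ₂ x) = φ₃ (b x)) (h₃ : ∀ x, c (φ₃ x) = φ₄ (c x)) :
    detRev φ₂ * detRev φ₄ = detRev φ₁ * detRev φ₃ := by
  have hr : ∀ x ∈ LinearMap.range b, φ₃ x ∈ LinearMap.range b := by
    rintro _ ⟨x, rfl⟩
    exact ⟨φ₂ x, h₂ x⟩
  have e1 : detRev φ₂ = detRev φ₁ * detRev (φ₃.restrict hr) := by
    refine detRev_exact a b.rangeRestrict φ₁ φ₂ (φ₃.restrict hr) ha b.surjective_rangeRestrict ?_ ?_ ?_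
    · intro y
      rw [← hab y]
      constructor
      · intro h; exact congrArg Subtype.val h
      · intro h; exact Subtype.ext h
    · ext x; exact h₁ x
    · ext x; exact h₂ x
  have e2 : detRev φ₃ = detRev (φ₃.restrict hr) * detRev φ₄ := by
    refine detRev_exact (LinearMap.range b).subtype c (φ₃.restrict hr) φ₃ φ₄
      (Submodule.subtype_injective _) hc ?_ ?_ ?_
    · intro y
      rw [hbc y]
      constructor
      · rintro ⟨x, rfl⟩; exact ⟨⟨b x, x, rfl⟩, rfl⟩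
      · rintro ⟨⟨_, x, rfl⟩, rfl⟩; exact ⟨x, rfl⟩
    · ext x; rfl
    · ext x; exact h₃ x
  rw [e1, e2, mul_assoc]

end Four

section

variable (k : Type u) [Field k] [Fintype k] {B : Type v} [CommRing B] [Algebra k B]

/-- the Frobenius `x ↦ x ^ q` as a `k`-linear map -/
noncomputable def frob (B : Type v) [CommRing B] [Algebra k B] : B →ₗ[k] B :=
  (FiniteField.frobeniusAlgHom k B).toLinearMap

theorem frob_apply (x : B) : frob k B x = x ^ Fintype.card k := rfl

variable {k}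
variable (A₁ A₂ : Subalgebra k B) (J : Ideal A₂)

/-- the image of `J ^ s` in `B` -/
def Jp (s : ℕ) : Submodule k B := ((J ^ s).restrictScalars k).map A₂.val.toLinearMap

variable {A₁ A₂ J}

theorem mem_Jp {s : ℕ} {x : B} : x ∈ Jp A₂ J s ↔ ∃ y : A₂, y ∈ J ^ s ∧ (y : B) = x := Iff.rfl

theorem Jp_le_A2 (s : ℕ) : Jp A₂ J s ≤ Subalgebra.toSubmodule A₂ := by
  rintro _ ⟨y, -, rfl⟩
  exact y.2

theorem Jp_anti : Antitone (Jp A₂ J) := by
  intro a b hab x hx
  obtain ⟨y, hy, rfl⟩ := mem_Jp.mp hx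
  exact mem_Jp.mpr ⟨y, Ideal.pow_le_pow_right hab hy, rfl⟩

theorem pow_mem_Jp {s : ℕ} {x : B} (hx : x ∈ Jp A₂ J s) (n : ℕ) : x ^ n ∈ Jp A₂ J (n * s) := by
  obtain ⟨y, hy, rfl⟩ := mem_Jp.mp hx
  refine mem_Jp.mpr ⟨y ^ n, ?_, rfl⟩
  rw [mul_comm, pow_mul]
  exact Ideal.pow_mem_pow hy n

theorem mul_mem_Jp {b : B} {c : ℕ} (hb : ∀ x ∈ Jp A₂ J c, b * x ∈ A₂) (s : ℕ) {x : B}
    (hx : x ∈ Jp A₂ J (s + c)) : b * x ∈ Jp A₂ J s := by
  obtain ⟨y, hy, rfl⟩ := mem_Jp.mp hx
  rw [pow_add] at hy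
  refine Submodule.mul_induction_on hy ?_ ?_
  · intro m hm n hn
    have h1 : b * (n : B) ∈ A₂ := hb _ (mem_Jp.mpr ⟨n, hn, rfl⟩)
    refine mem_Jp.mpr ⟨m * ⟨b * n, h1⟩, Ideal.mul_mem_right _ _ hm, ?_⟩
    change (m : B) * (b * n) = b * (m * n)
    ring
  · intro x y hx hy
    have : b * ((x + y : A₂) : B) = b * x + b * y := by
      rw [← mul_add]; rfl
    rw [this]
    exact Submodule.add_mem _ hx hy

/-- the endomorphism of a quotient induced by Frobenius -/
noncomputable def frobQ (P : Submodule k B) (hP : ∀ x ∈ P, x ^ Fintype.card k ∈ P) : (B ⧸ P) →ₗ[k] (B ⧸ P) :=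
  P.mapQ P (frob k B) hP

theorem frobQ_mk (P : Submodule k B) (hP : ∀ x ∈ P, x ^ Fintype.card k ∈ P) (x : B) :
    frobQ P hP (Submodule.Quotient.mk x) = Submodule.Quotient.mk (x ^ Fintype.card k) := rfl

variable (k) in
theorem add_pow_card (x y : B) : (x + y) ^ Fintype.card k = x ^ Fintype.card k + y ^ Fintype.card k :=
  map_add (frob k B) x y

/-- **The determinant identity.** -/
theorem main (D : ℕ)
    (hbdd : ∀ b ∈ A₁, ∃ c, ∀ x ∈ Jp A₂ J c, b * x ∈ A₂)
    (hfin : FiniteDimensional k (B ⧸ (Subalgebra.toSubmodule A₁ ⊔ Subalgebra.toSubmodule A₂)))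
    (hfinJ : ∀ s, FiniteDimensional k (A₂ ⧸ ((J ^ s).restrictScalars k : Submodule k A₂)))
    (hint : ∀ x ∈ A₁, x ∈ Jp A₂ J 1 → x = 0)
    (hR : ∀ n, 1 ≤ n → n < D → Ideal.span (Set.range fun b : A₁ => b ^ Fintype.card k ^ n - b) = ⊤)
    (hP : ∀ x ∈ Subalgebra.toSubmodule A₁ ⊔ Subalgebra.toSubmodule A₂,
      x ^ Fintype.card k ∈ Subalgebra.toSubmodule A₁ ⊔ Subalgebra.toSubmodule A₂) :
    ∃ (hPJ : ∀ x ∈ J.restrictScalars k, frob k A₂ x ∈ J.restrictScalars k),
      (X : k[X]) ^ D ∣ detRev ((J.restrictScalars k).mapQ (J.restrictScalars k) (frob k A₂) hPJ) *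
        detRev (frobQ _ hP) - detRev (frob k (A₁ ⊓ A₂ : Subalgebra k B)) := by
  classical
  have hq : 2 ≤ Fintype.card k := Fintype.one_lt_card
  have hPJ : ∀ x ∈ J.restrictScalars k, frob k A₂ x ∈ J.restrictScalars k := fun x hx =>
    Ideal.pow_mem_of_mem J hx _ (by omega)
  refine ⟨hPJ, ?_⟩
  -- the space `V = B / A₁`
  let S₁ : Submodule k B := Subalgebra.toSubmodule A₁
  let V := B ⧸ S₁
  let T : Module.End k V := S₁.mapQ S₁ (frob k B) (fun x hx => A₁.pow_mem hx _)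
  let ρ : A₁ →+* Module.End k V :=
    { toFun := fun b => S₁.mapQ S₁ (LinearMap.mulLeft k (b : B)) (fun x hx => A₁.mul_mem b.2 hx)
      map_one' := by
        ext x
        change (Submodule.Quotient.mk ((1 : B) * x) : V) = Submodule.Quotient.mk x
        rw [one_mul]
      map_mul' := fun b c => by
        ext x
        change (Submodule.Quotient.mk ((b * c : B) * x) : V) = Submodule.Quotient.mk (b * (c * x))
        rw [mul_assoc]
      map_zero' := by
        ext x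
        change (Submodule.Quotient.mk ((0 : B) * x) : V) = 0
        rw [zero_mul]; rfl
      map_add' := fun b c => by
        ext x
        change (Submodule.Quotient.mk ((b + c : B) * x) : V) =
          Submodule.Quotient.mk (b * x) + Submodule.Quotient.mk (c * x)
        rw [add_mul]; rfl }
  let F : ℕ → Submodule k V := fun s => (Jp A₂ J s).map S₁.mkQ
  have hF : Antitone F := fun a b hab => Submodule.map_mono (Jp_anti hab)
  have hFmem : ∀ s, ∀ v ∈ F s, ∃ x ∈ Jp A₂ J s, Submodule.Quotient.mk x = v := by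
    rintro s _ ⟨x, hx, rfl⟩
    exact ⟨x, hx, rfl⟩
  have hTF : ∀ a, ∀ x ∈ F a, T x ∈ F (Fintype.card k * a) := by
    rintro a _ ⟨x, hx, rfl⟩
    exact ⟨x ^ Fintype.card k, pow_mem_Jp hx _, rfl⟩
  have hρ : ∀ b, ∃ c, ∀ a, ∀ x ∈ F (a + c), ρ b x ∈ F a := by
    intro b
    obtain ⟨c, hc⟩ := hbdd b b.2
    refine ⟨c, ?_⟩
    rintro a _ ⟨x, hx, rfl⟩
    exact ⟨b * x, mul_mem_Jp hc a hx, rfl⟩
  have hT : ∀ b, T * ρ b = ρ (b ^ Fintype.card k) * T := by
    intro b
    ext x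
    change (Submodule.Quotient.mk ((b * x : B) ^ Fintype.card k) : V) =
      Submodule.Quotient.mk ((b : B) ^ Fintype.card k * x ^ Fintype.card k)
    rw [mul_pow]
  -- the map `A₂ → V / F s`
  let P : Submodule k B := Subalgebra.toSubmodule A₁ ⊔ Subalgebra.toSubmodule A₂
  have hle : ∀ s, F s ≤ LinearMap.ker (S₁.mapQ P LinearMap.id (le_sup_left : S₁ ≤ P)) := by
    rintro s _ ⟨x, hx, rfl⟩
    rw [LinearMap.mem_ker]
    change (Submodule.Quotient.mk x : B ⧸ P) = 0
    rw [Submodule.Quotient.mk_eq_zero]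
    exact (le_sup_right : Subalgebra.toSubmodule A₂ ≤ P) (Jp_le_A2 s hx)
  let c : ∀ s, (V ⧸ F s) →ₗ[k] (B ⧸ P) := fun s =>
    (F s).liftQ (S₁.mapQ P LinearMap.id (le_sup_left : S₁ ≤ P)) (hle s)
  have hc : ∀ s (x : B), c s (Submodule.Quotient.mk (Submodule.Quotient.mk x)) = Submodule.Quotient.mk x :=
    fun s x => rfl
  have hcs : ∀ s, Function.Surjective (c s) := by
    intro s y
    obtain ⟨x, rfl⟩ := Submodule.Quotient.mk_surjective _ y
    exact ⟨Submodule.Quotient.mk (Submodule.Quotient.mk x), rfl⟩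
  let b : ∀ s, (A₂ ⧸ ((J ^ s).restrictScalars k : Submodule k A₂)) →ₗ[k] (V ⧸ F s) := fun s =>
    ((J ^ s).restrictScalars k).liftQ (((F s).mkQ ∘ₗ S₁.mkQ) ∘ₗ A₂.val.toLinearMap) (by
      intro x hx
      rw [LinearMap.mem_ker]
      change (Submodule.Quotient.mk (S₁.mkQ (x : B)) : V ⧸ F s) = 0
      rw [Submodule.Quotient.mk_eq_zero]
      exact ⟨x, mem_Jp.mpr ⟨x, hx, rfl⟩, rfl⟩)
  have hb : ∀ s (x : A₂), b s (Submodule.Quotient.mk x) =
      Submodule.Quotient.mk (Submodule.Quotient.mk (x : B)) := fun s x => rfl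
  have hbc : ∀ s, Function.Exact (b s) (c s) := by
    intro s y
    obtain ⟨y, rfl⟩ := Submodule.Quotient.mk_surjective _ y
    obtain ⟨y, rfl⟩ := Submodule.Quotient.mk_surjective _ y
    rw [hc, Submodule.Quotient.mk_eq_zero]
    constructor
    · intro hy
      obtain ⟨y₁, hy₁, y₂, hy₂, rfl⟩ := Submodule.mem_sup.mp hy
      refine ⟨Submodule.Quotient.mk ⟨y₂, hy₂⟩, ?_⟩
      rw [hb]
      congr 1
      rw [Submodule.Quotient.eq]
      have : y₂ - (y₁ + y₂) = -y₁ := by abel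
      change y₂ - (y₁ + y₂) ∈ S₁
      rw [this]
      exact S₁.neg_mem hy₁
    · rintro ⟨z, hz⟩
      obtain ⟨z, rfl⟩ := Submodule.Quotient.mk_surjective _ z
      rw [hb, Submodule.Quotient.eq] at hz
      obtain ⟨w, hw, hw'⟩ := hz
      have h1 : (Submodule.Quotient.mk w : V) = Submodule.Quotient.mk ((z : B) - y) := hw'
      rw [Submodule.Quotient.eq] at h1
      have h2 : y = (w - ((z : B) - y)) + ((z : B) - w) := by abel
      rw [h2]
      exact Submodule.add_mem_sup h1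
        ((Subalgebra.toSubmodule A₂).sub_mem z.2 (Jp_le_A2 s hw))
  have hVF : ∀ s, FiniteDimensional k (V ⧸ F s) := by
    intro s
    have h1 := hfinJ s
    have h2 : Module.Finite k (LinearMap.range (b s)) := inferInstance
    have h3 : Module.Finite k ((V ⧸ F s) ⧸ LinearMap.range (b s)) := by
      have e : LinearMap.ker (c s) = LinearMap.range (b s) := (hbc s).linearMap_ker_eq
      rw [← e]
      exact Module.Finite.equiv ((c s).quotKerEquivOfSurjective (hcs s)).symm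
    exact Module.Finite.of_submodule_quotient (LinearMap.range (b s))
  have hTF1 : F 1 ≤ (F 1).comap T := fun x hx => hF (by omega) (hTF 1 x hx)
  have key := DetAT.X_pow_dvd F hF ρ hρ (Fintype.card k) hq T hTF hT D hR 1 le_rfl hTF1
  -- the four term sequence
  have hJ1 : ((J ^ 1).restrictScalars k : Submodule k A₂) = J.restrictScalars k := by rw [pow_one]
  have : FiniteDimensional k (A₂ ⧸ (J.restrictScalars k : Submodule k A₂)) := by
    rw [← hJ1]; exact hfinJ 1
  let a' : (A₁ ⊓ A₂ : Subalgebra k B) →ₗ[k] (A₂ ⧸ (J.restrictScalars k : Submodule k A₂)) :=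
    (J.restrictScalars k).mkQ ∘ₗ (Subalgebra.inclusion (inf_le_right : A₁ ⊓ A₂ ≤ A₂)).toLinearMap
  let b' : (A₂ ⧸ (J.restrictScalars k : Submodule k A₂)) →ₗ[k] (V ⧸ F 1) :=
    b 1 ∘ₗ (Submodule.quotEquivOfEq _ _ hJ1.symm).toLinearMap
  have hb' : ∀ (x : A₂), b' (Submodule.Quotient.mk x) =
      Submodule.Quotient.mk (Submodule.Quotient.mk (x : B)) := fun x => rfl
  have hfour := detRev_four a' b' (c 1) (frob k _)
    ((J.restrictScalars k).mapQ (J.restrictScalars k) (frob k A₂) hPJ)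
    ((F 1).mapQ (F 1) T hTF1) (frobQ _ hP) ?_ ?_ ?_ (hcs 1) ?_ ?_ ?_
  · rw [hfour]
    have : detRev (frob k (A₁ ⊓ A₂ : Subalgebra k B)) * detRev ((F 1).mapQ (F 1) T hTF1) -
        detRev (frob k (A₁ ⊓ A₂ : Subalgebra k B)) = detRev (frob k (A₁ ⊓ A₂ : Subalgebra k B)) *
          (detRev ((F 1).mapQ (F 1) T hTF1) - 1) := by ring
    rw [this]
    exact Dvd.dvd.mul_left key _
  · rw [injective_iff_map_eq_zero]
    intro x hx
    have h1 : (Submodule.Quotient.mk ((Subalgebra.inclusion (inf_le_right : A₁ ⊓ A₂ ≤ A₂)) x) :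
      A₂ ⧸ (J.restrictScalars k : Submodule k A₂)) = 0 := hx
    rw [Submodule.Quotient.mk_eq_zero] at h1
    exact Subtype.ext (hint x x.2.1 (mem_Jp.mpr ⟨_, by rw [pow_one]; exact h1, rfl⟩))
  · intro y
    obtain ⟨y, rfl⟩ := Submodule.Quotient.mk_surjective _ y
    rw [hb', Submodule.Quotient.mk_eq_zero]
    constructor
    · rintro ⟨w, hw, hw'⟩
      have h1 : (Submodule.Quotient.mk w : V) = Submodule.Quotient.mk (y : B) := hw'
      rw [Submodule.Quotient.eq] at h1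
      have h2 : (y : B) - w ∈ A₁ := by
        have := A₁.neg_mem h1
        rwa [neg_sub] at this
      have h3 : (y : B) - w ∈ A₂ := A₂.sub_mem y.2 (Jp_le_A2 1 hw)
      refine ⟨⟨(y : B) - w, h2, h3⟩, ?_⟩
      change (Submodule.Quotient.mk ((Subalgebra.inclusion (inf_le_right : A₁ ⊓ A₂ ≤ A₂))
        ⟨(y : B) - w, h2, h3⟩) : A₂ ⧸ (J.restrictScalars k : Submodule k A₂)) = Submodule.Quotient.mk y
      rw [Submodule.Quotient.eq]
      obtain ⟨w', hw1, hw2⟩ := mem_Jp.mp hw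
      have h4 : (Subalgebra.inclusion (inf_le_right : A₁ ⊓ A₂ ≤ A₂)) ⟨(y : B) - w, h2, h3⟩ - y = -w' := by
        apply Subtype.ext
        change ((y : B) - w) - y = -(w' : B)
        rw [hw2]; abel
      rw [h4]
      refine Submodule.neg_mem _ ?_
      rw [pow_one] at hw1
      exact hw1
    · rintro ⟨w, hw⟩
      have h1 : (Submodule.Quotient.mk ((Subalgebra.inclusion (inf_le_right : A₁ ⊓ A₂ ≤ A₂)) w) :
        A₂ ⧸ (J.restrictScalars k : Submodule k A₂)) = Submodule.Quotient.mk y := hw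
      rw [Submodule.Quotient.eq] at h1
      refine ⟨(y : B) - w, ?_, ?_⟩
      · have h2 := Submodule.neg_mem _ h1
        refine mem_Jp.mpr ⟨_, by rw [pow_one]; exact h2, ?_⟩
        change -((w : B) - y) = y - w
        abel
      · change (Submodule.Quotient.mk ((y : B) - w) : V) = Submodule.Quotient.mk (y : B)
        rw [Submodule.Quotient.eq]
        have : (y : B) - w - y = -(w : B) := by abel
        rw [this]
        exact S₁.neg_mem w.2.1
  · intro y
    rw [hbc 1 y]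
    constructor
    · rintro ⟨x, rfl⟩
      exact ⟨(Submodule.quotEquivOfEq _ _ hJ1) x, by
        change b 1 ((Submodule.quotEquivOfEq _ _ hJ1.symm) ((Submodule.quotEquivOfEq _ _ hJ1) x)) = b 1 x
        congr 1
        obtain ⟨x, rfl⟩ := Submodule.Quotient.mk_surjective _ x
        rfl⟩
    · rintro ⟨x, rfl⟩
      exact ⟨_, rfl⟩
  · intro x; rfl
  · intro y
    obtain ⟨y, rfl⟩ := Submodule.Quotient.mk_surjective _ y
    rfl
  · intro y
    obtain ⟨y, rfl⟩ := Submodule.Quotient.mk_surjective _ y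
    obtain ⟨y, rfl⟩ := Submodule.Quotient.mk_surjective _ y
    rfl

end

end Groth.Agent.Sga4h.H569.CurveAlg
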