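import Groth.Prelude.Def_FinFrL
import Groth.Prelude.Def_Coh
import Groth.Agent.Sga4h.H569.CommAlg
import Mathlib.AlgebraicGeometry.AffineScheme
import Mathlib.AlgebraicGeometry.ResidueField

/-!
# Closed points of affine opens of a scheme over a field: residue fields, `k`-algebra structures
-/

set_option autoImplicit false

universe u

open CategoryTheory CategoryTheory.Limits AlgebraicGeometry Opposite TopologicalSpace

namespace Groth.Agent.Sga4h.H569.CurvePts

variable {k : Type u} [Field k] {Y : Scheme.{u}} (b : Y ⟶ Spec (CommRingCat.of k))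

/-- the structure map `k → Γ(Y, V)` -/
noncomputable def kΓ (V : Y.Opens) : k →+* Γ(Y, V) :=
  (Y.presheaf.map (homOfLE (le_top (a := V))).op).hom.comp
    ((b.appTop).hom.comp (Scheme.ΓSpecIso (CommRingCat.of k)).inv.hom)

theorem map_kΓ {V W : Y.Opens} (i : op W ⟶ op V) (c : k) :
    (Y.presheaf.map i).hom (kΓ b W c) = kΓ b V c := by
  change (Y.presheaf.map _ ≫ Y.presheaf.map i).hom _ = _
  rw [← Functor.map_comp]
  rfl

theorem evaluation_kΓ (V : Y.Opens) (x : Y) (hx : x ∈ V) :
    (Y.evaluation V x hx).hom.comp (kΓ b V) = FinFr.resAlgHom b x := by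
  have h1 : Spec.map (CommRingCat.ofHom ((Y.evaluation V x hx).hom.comp (kΓ b V))) =
      Y.fromSpecResidueField x ≫ b := by
    have h2 : CommRingCat.ofHom ((Y.evaluation V x hx).hom.comp (kΓ b V)) =
        (Scheme.ΓSpecIso (CommRingCat.of k)).inv ≫ b.appTop ≫ Y.evaluation ⊤ x trivial := by
      ext c
      change (Y.evaluation V x hx).hom ((Y.presheaf.map (homOfLE (le_top (a := V))).op).hom
        (b.appTop.hom ((Scheme.ΓSpecIso (CommRingCat.of k)).inv.hom c))) =
        (Y.evaluation ⊤ x trivial).hom (b.appTop.hom ((Scheme.ΓSpecIso (CommRingCat.of k)).inv.hom c))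
      have h3 : Y.presheaf.map (homOfLE (le_top (a := V))).op ≫ Y.evaluation V x hx = Y.evaluation ⊤ x trivial := by
        rw [← Scheme.germ_residue, ← Scheme.germ_residue, TopCat.Presheaf.germ_res_assoc]
      rw [← h3]
      rfl
    rw [h2, Spec.map_comp, Spec.map_comp]
    have h4 : Spec.map (Y.evaluation ⊤ x trivial) = Y.fromSpecResidueField x ≫ Y.toSpecΓ := by
      rw [← Scheme.germ_residue, Spec.map_comp, Scheme.fromSpecResidueField, Category.assoc,
        Scheme.fromSpecStalk_toSpecΓ]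
    rw [h4, Category.assoc, Category.assoc]
    congr 1
    rw [← Scheme.toSpecΓ_naturality_assoc, toSpecΓ_SpecMap_ΓSpecIso_inv, Category.comp_id]
  have h5 : CommRingCat.ofHom ((Y.evaluation V x hx).hom.comp (kΓ b V)) =
      Spec.preimage (Y.fromSpecResidueField x ≫ b) := by
    apply Spec.map_injective
    rw [h1, Spec.map_preimage]
  exact congrArg (fun f => f.hom) h5

variable {V : Y.Opens} (hV : IsAffineOpen V)

/-- the kernel of evaluation -/
theorem mem_primeIdealOf_iff (x : Y) (hx : x ∈ V) (f : Γ(Y, V)) :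
    f ∈ (hV.primeIdealOf ⟨x, hx⟩).asIdeal ↔ (Y.evaluation V x hx).hom f = 0 := by
  rw [hV.primeIdealOf_eq_map_closedPoint]
  change (Y.presheaf.germ V x hx).hom f ∈ IsLocalRing.maximalIdeal (Y.presheaf.stalk x) ↔ _
  rw [← IsLocalRing.residue_eq_zero_iff]
  rfl

include hV in
theorem isMaximal_ker (x : Y) (hx : x ∈ V) (hcl : IsClosed ({x} : Set Y)) :
    (RingHom.ker (Y.evaluation V x hx).hom).IsMaximal := by
  have h1 := hV.primeIdealOf_isMaximal_of_isClosed ⟨x, hx⟩ hcl
  have h2 : RingHom.ker (Y.evaluation V x hx).hom = (hV.primeIdealOf ⟨x, hx⟩).asIdeal := by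
    ext f
    rw [RingHom.mem_ker, mem_primeIdealOf_iff]
  rw [h2]; exact h1

include hV in
theorem evaluation_surjective (x : Y) (hx : x ∈ V) (hcl : IsClosed ({x} : Set Y)) :
    Function.Surjective (Y.evaluation V x hx).hom := by
  intro z
  obtain ⟨s, rfl⟩ := Y.residue_surjective x z
  let _ : Algebra Γ(Y, V) (Y.presheaf.stalk x) := Y.presheaf.algebra_section_stalk (⟨x, hx⟩ : V)
  have := hV.isLocalization_stalk ⟨x, hx⟩
  obtain ⟨⟨a, t⟩, hat⟩ := IsLocalization.surj (hV.primeIdealOf ⟨x, hx⟩).asIdeal.primeCompl s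
  have hmax := isMaximal_ker hV x hx hcl
  have ht : (t : Γ(Y, V)) ∉ RingHom.ker (Y.evaluation V x hx).hom := by
    rw [RingHom.mem_ker, ← mem_primeIdealOf_iff hV]
    exact t.2
  obtain ⟨v, hv⟩ := hmax.exists_inv ht
  obtain ⟨i, hi, hvi⟩ := hv
  refine ⟨a * v, ?_⟩
  have h1 : (Y.evaluation V x hx).hom (t : Γ(Y, V)) * (Y.residue x).hom s = (Y.evaluation V x hx).hom a := by
    have := congrArg (Y.residue x).hom hat
    rw [map_mul, mul_comm] at this
    exact this
  have h2 : (Y.evaluation V x hx).hom v * (Y.evaluation V x hx).hom (t : Γ(Y, V)) = 1 := by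
    have := congrArg (Y.evaluation V x hx).hom hvi
    rw [map_add, map_mul, (RingHom.mem_ker).mp hi, add_zero, map_one] at this
    exact this
  rw [map_mul, ← h1]
  calc _ = ((Y.evaluation V x hx).hom v * (Y.evaluation V x hx).hom (t : Γ(Y, V))) * (Y.residue x).hom s := by ring
    _ = _ := by rw [h2, one_mul]

include hV in
/-- maximal ideals of an affine open are closed points -/
theorem exists_of_isMaximal [JacobsonSpace Y] (p : Ideal Γ(Y, V)) [hp : p.IsMaximal] :
    ∃ (x : Y) (hx : x ∈ V), IsClosed ({x} : Set Y) ∧ RingHom.ker (Y.evaluation V x hx).hom = p := by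
  let y : Spec Γ(Y, V) := ⟨p, hp.isPrime⟩
  have hxV : hV.fromSpec y ∈ V := by
    have : hV.fromSpec y ∈ Set.range hV.fromSpec := ⟨y, rfl⟩
    rwa [hV.range_fromSpec] at this
  have hy : hV.primeIdealOf ⟨hV.fromSpec y, hxV⟩ = y := by
    apply hV.fromSpec.isOpenEmbedding.injective
    exact hV.fromSpec_primeIdealOf ⟨hV.fromSpec y, hxV⟩
  refine ⟨hV.fromSpec y, hxV, ?_, ?_⟩
  · apply isClosed_singleton_of_isLocallyClosed_singleton
    have h1 : IsClosed ({y} : Set (Spec Γ(Y, V))) :=
      (PrimeSpectrum.isClosed_singleton_iff_isMaximal y).mpr hp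
    have h2 : ({hV.fromSpec y} : Set Y) = hV.fromSpec '' {y} := Set.image_singleton.symm
    rw [h2]
    exact h1.isLocallyClosed.image hV.fromSpec.isOpenEmbedding.isInducing
      hV.fromSpec.isOpenEmbedding.isOpen_range.isLocallyClosed
  · ext f
    rw [RingHom.mem_ker, ← mem_primeIdealOf_iff hV, hy]

end Groth.Agent.Sga4h.H569.CurvePts
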