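import Groth.Agent.Sga4h.H925.LFOf

/-!
# From the coefficientwise L-function identity to the vanishing of the defect (converse of `H925.LFOf.LF_of_defect`)
-/

set_option autoImplicit false

universe u v

open CategoryTheory CategoryTheory.Limits AlgebraicGeometry Opposite

namespace Groth.Agent.Sga4h.H569.DefectOf

open Groth.Agent.Sga4h.H925.Inv Groth.Agent.Sga4h.H925.DetInv Groth.Agent.Sga4h.H925.Defs
open Groth.Agent.Sga4h.H925.LFOf
open Polynomial

variable {Λ : Type} [Field Λ]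

theorem trMap_eq_of_coeff {N : ℕ} {f g : Λ[X]} (hf : f.coeff 0 = 1) (hg : g.coeff 0 = 1)
    (h : ∀ m ≤ N, f.coeff m = g.coeff m) :
    trMap Λ N (Additive.ofMul (psUnit f)) = trMap Λ N (Additive.ofMul (psUnit g)) := by
  apply Additive.toMul.injective
  ext1
  change (Ideal.Quotient.mk (Ideal.span {(PowerSeries.X : PowerSeries Λ) ^ (N + 1)})) (psUnit f : PowerSeries Λ) =
      (Ideal.Quotient.mk (Ideal.span {(PowerSeries.X : PowerSeries Λ) ^ (N + 1)})) (psUnit g : PowerSeries Λ)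
  rw [val_psUnit hf, val_psUnit hg, Ideal.Quotient.eq, Ideal.mem_span_singleton, PowerSeries.X_pow_dvd_iff]
  intro m hm
  rw [map_sub, Polynomial.coeff_coe, Polynomial.coeff_coe, h m (by omega), sub_self]

variable {k : Type u} [Field k] [Fintype k] (K : Type u) [Field K] [Algebra k K] [Algebra.IsAlgebraic k K]
  [Fact FinFr.PullExact.{u}] {P : Scheme.{u}} (b : P ⟶ Spec (CommRingCat.of k))

/-- The vanishing of the defect from the L-function identity modulo `T^(N+1)`. -/
theorem defect_of_LF (M : EtLam.Sheaf Λ P) (N m₀ : ℕ) (hm₀ : ∀ i, m₀ ≤ i → Subsingleton (HK K b M i))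
    (hfin : Finite {x : FinFr.ClosedPt P // FinFr.ptDeg b x.1 ≤ N})
    (hloc : ∀ x : P, IsClosed ({x} : Set P) →
      FinFr.charRev (frobK K (P.fromSpecResidueField x ≫ b) (EtLam.pullback (P.fromSpecResidueField x) M) 0) =
        FinFr.locFactor b x M)
    (h : LF K b M N) : defect K (detInvN Λ N) b N M = 0 := by
  classical
  obtain ⟨h1, h2, h3⟩ := alt_eq (fun i => HK K b M i) (fun i => frobK K b M i) m₀ hm₀ N
  have := Fintype.ofFinite {x : FinFr.ClosedPt P // FinFr.ptDeg b x.1 ≤ N}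
  have hl1 : ∀ x : {x : FinFr.ClosedPt P // FinFr.ptDeg b x.1 ≤ N}, (FinFr.locFactor b x.1.1 M).coeff 0 = 1 := by
    intro x
    rw [← hloc x.1.1 x.1.2]
    exact coeff_zero_charRev _
  have hloc' : loc K (detInvN Λ N) b N M = trMap Λ N (Additive.ofMul (psUnit
      (∏ᶠ x : {x : FinFr.ClosedPt P // FinFr.ptDeg b x.1 ≤ N}, FinFr.locFactor b x.1.1 M))) := by
    rw [loc, finsum_eq_sum_of_fintype, finprod_eq_prod_of_fintype,
      (psUnit_prod _ _ fun x _ => hl1 x).1, ofMul_prod, map_sum]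
    refine Finset.sum_congr rfl fun x _ => ?_
    rw [locV, detInvN, mapInv_val, detInv_one_val, hloc x.1.1 x.1.2]
  have hl2 : (∏ᶠ x : {x : FinFr.ClosedPt P // FinFr.ptDeg b x.1 ≤ N}, FinFr.locFactor b x.1.1 M).coeff 0 = 1 := by
    rw [finprod_eq_prod_of_fintype]
    exact (psUnit_prod _ _ fun x _ => hl1 x).2
  have h4 := trMap_eq_of_coeff (N := N)
    (f := (∏ᶠ i : {i : ℕ // Odd i}, FinFr.charRev (frobK K b M i.1)) *
      ∏ᶠ x : {x : FinFr.ClosedPt P // FinFr.ptDeg b x.1 ≤ N}, FinFr.locFactor b x.1.1 M)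
    (g := ∏ᶠ i : {i : ℕ // Even i}, FinFr.charRev (frobK K b M i.1))
    (by rw [mul_coeff_zero, h2, hl2, one_mul]) h3 h
  rw [psUnit_mul h2 hl2, ofMul_mul, map_add, ← hloc', ← h1] at h4
  have h5 : loc K (detInvN Λ N) b N M = glob K (detInvN Λ N) b M := by
    refine add_left_cancel (a := trMap Λ N (Additive.ofMul (psUnit
      (∏ᶠ i : {i : ℕ // Odd i}, FinFr.charRev (frobK K b M i.1))))) ?_
    rw [h4]
    exact add_comm (G := Additive (TrRing Λ N)ˣ) _ _
  rw [defect, h5, sub_self]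

end Groth.Agent.Sga4h.H569.DefectOf
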