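import Groth.Agent.Sga4h.H569.DetRev
import Groth.Agent.Sga4h.H925.AT
import Mathlib.LinearAlgebra.TensorProduct.RightExactness
import Mathlib.RingTheory.Ideal.Quotient.Operations

/-!
# The determinant trick over `k[X] / X^D`, `k`-linear form

`V` a `k`-vector space with a decreasing filtration `F a` of finite codimension, `R` a commutative ring acting by
`k`-linear operators of bounded order, `T` a `k`-linear operator with `T b = b^q T` and `T (F a) ⊆ F (q a)`.
If the elements `b^(q^n) - b` generate the unit ideal of `R` for `1 ≤ n < D`, then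
`det(1 - X T | V / F a) ≡ 1 mod X^D` for all `a ≥ 1`.
-/

set_option autoImplicit false

namespace Groth.Agent.Sga4h.H569.DetAT

open Polynomial TensorProduct
open Groth.Agent.Sga4h.H569.DetRev
open Groth.Agent.Sga4h.H925.AT

universe u v w

section

variable {k : Type u} [Field k] {V : Type v} [AddCommGroup V] [Module k V] (A : Type w) [CommRing A]
  [Algebra k A]

theorem mem_baseChange_of_maps {F G : Submodule k V} (f : V →ₗ[k] V) (h : ∀ x ∈ F, f x ∈ G)
    {x : A ⊗[k] V} (hx : x ∈ F.baseChange A) : f.baseChange A x ∈ G.baseChange A := by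
  obtain ⟨y, rfl⟩ := hx
  refine ⟨(f.restrict h).baseChange A y, ?_⟩
  induction y with
  | zero => simp
  | add y z hy hz => simp only [map_add, hy, hz]
  | tmul a y => simp

/-- `(A ⊗ V) / (A ⊗ F) = A ⊗ (V / F)` -/
theorem ker_baseChange_mkQ (F : Submodule k V) :
    LinearMap.ker (F.mkQ.baseChange A) = F.baseChange A := by
  have h := lTensor_exact A (f := F.subtype) (g := F.mkQ) (fun y => by
    rw [← LinearMap.mem_ker, Submodule.ker_mkQ]
    exact ⟨fun hy => ⟨⟨y, hy⟩, rfl⟩, by rintro ⟨x, rfl⟩; exact x.2⟩) F.mkQ_surjective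
  ext x
  rw [LinearMap.mem_ker]
  exact h x

noncomputable def quotEquiv (F : Submodule k V) : ((A ⊗[k] V) ⧸ F.baseChange A) ≃ₗ[A] A ⊗[k] (V ⧸ F) :=
  (Submodule.quotEquivOfEq _ _ (ker_baseChange_mkQ A F).symm).trans
    ((F.mkQ.baseChange A).quotKerEquivOfSurjective
      (LinearMap.baseChange_surjective A F.mkQ_surjective))

theorem quotEquiv_mk (F : Submodule k V) (x : A ⊗[k] V) :
    quotEquiv A F (Submodule.Quotient.mk x) = F.mkQ.baseChange A x := rfl

end

section

variable {k : Type u} [Field k] {V : Type v} [AddCommGroup V] [Module k V]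

/-- `det(1 - X f)` specialised at an element of a `k`-algebra. -/
theorem detRev_eval {A : Type w} [CommRing A] [Algebra k A] (t : A) [FiniteDimensional k V] (f : V →ₗ[k] V) :
    Polynomial.aeval t (detRev f) = LinearMap.det (LinearMap.id - t • f.baseChange A) := by
  classical
  let b := Module.finBasis k V
  rw [detRev_eq b, Matrix.charpolyRev, AlgHom.map_det, ← LinearMap.det_toMatrix (b.baseChange A)]
  congr 1
  refine Matrix.ext fun i j => ?_
  rw [LinearMap.toMatrix_apply, Module.Basis.baseChange_apply]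
  have h1 : (LinearMap.id - t • f.baseChange A : A ⊗[k] V →ₗ[A] A ⊗[k] V) ((1 : A) ⊗ₜ[k] b j) =
      (1 : A) ⊗ₜ[k] b j - t • ((1 : A) ⊗ₜ[k] f (b j)) := rfl
  rw [h1]
  have h2 : (AlgHom.mapMatrix (Polynomial.aeval t)) (1 - (X : k[X]) • (LinearMap.toMatrix b b f).map C) i j =
      Polynomial.aeval t ((1 : Matrix _ _ k[X]) i j - X * C (LinearMap.toMatrix b b f i j)) := rfl
  rw [h2, map_sub, map_mul, aeval_X, aeval_C, map_sub, map_smul, Finsupp.sub_apply, Finsupp.smul_apply,
    Module.Basis.baseChange_repr_tmul, Module.Basis.baseChange_repr_tmul, LinearMap.toMatrix_apply]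
  congr 1
  · rw [Matrix.one_apply, Module.Basis.repr_self, Finsupp.single_apply]
    by_cases h : i = j
    · subst h; simp
    · rw [if_neg h, if_neg (fun h' => h h'.symm), map_zero, zero_smul]
  · rw [smul_eq_mul, Algebra.smul_def, mul_one]

/-- The determinant trick over an arbitrary `k`-algebra with a nilpotent element. -/
theorem det_eq_one {A : Type w} [CommRing A] [Algebra k A] (t : A)
    (F : ℕ → Submodule k V) (hF : Antitone F) [∀ a, FiniteDimensional k (V ⧸ F a)]
    {R : Type*} [CommRing R] (ρ : R →+* Module.End k V)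
    (hρ : ∀ b, ∃ c, ∀ a, ∀ x ∈ F (a + c), ρ b x ∈ F a)
    (q : ℕ) (hq : 2 ≤ q) (T : Module.End k V) (hTF : ∀ a, ∀ x ∈ F a, T x ∈ F (q * a))
    (hT : ∀ b, T * ρ b = ρ (b ^ q) * T) (D : ℕ) (ht : t ^ D = 0)
    (hR : ∀ n, 1 ≤ n → n < D → Ideal.span (Set.range fun b : R => b ^ q ^ n - b) = ⊤)
    (a : ℕ) (ha : 1 ≤ a) (h : F a ≤ (F a).comap T) :
    LinearMap.det (LinearMap.id - t • ((F a).mapQ (F a) T h).baseChange A) = 1 := by
  classical
  let F' : ℕ → Submodule A (A ⊗[k] V) := fun a => (F a).baseChange A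
  have hF' : Antitone F' := fun a b hab => Submodule.baseChange_mono A (hF hab)
  have hfree : ∀ a, Module.Free A ((A ⊗[k] V) ⧸ F' a) := fun a =>
    Module.Free.of_equiv (quotEquiv A (F a)).symm
  have hfin : ∀ a, Module.Finite A ((A ⊗[k] V) ⧸ F' a) := fun a =>
    Module.Finite.equiv (quotEquiv A (F a)).symm
  let ρ' : R →+* Module.End A (A ⊗[k] V) :=
    RingHom.comp ((Module.End.baseChangeHom k A V : Module.End k V →ₐ[k] _) : Module.End k V →+* _) ρ
  let T' : Module.End A (A ⊗[k] V) := t • T.baseChange A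
  have hTF' : ∀ a, ∀ x ∈ F' a, T' x ∈ F' (q * a) := fun a x hx =>
    Submodule.smul_mem _ _ (mem_baseChange_of_maps A T (hTF a) hx)
  have hρ' : ∀ b, Bdd F' (ρ' b) := fun b => by
    obtain ⟨c, hc⟩ := hρ b
    exact ⟨c, fun a x hx => mem_baseChange_of_maps A (ρ b) (hc a) hx⟩
  have hTD : T' ^ D = 0 := by
    have h1 : T' ^ D = t ^ D • (T.baseChange A : Module.End A (A ⊗[k] V)) ^ D :=
      smul_pow t (T.baseChange A : Module.End A (A ⊗[k] V)) D
    rw [h1, ht]
    exact zero_smul _ _
  have hT' : ∀ b, T' * ρ' b = ρ' (b ^ q) * T' := by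
    intro b
    have h1 : (T.baseChange A : Module.End A (A ⊗[k] V)) * ρ' b = ρ' (b ^ q) * T.baseChange A := by
      have h2 := congrArg (fun f => Module.End.baseChangeHom k A V f) (hT b)
      simp only [map_mul] at h2
      exact h2
    change (t • T.baseChange A) * ρ' b = ρ' (b ^ q) * (t • T.baseChange A)
    rw [smul_mul_assoc, h1, mul_smul_comm]
  have hle : F' a ≤ (F' a).comap (1 - T') := fun x hx =>
    (F' a).sub_mem hx (Submodule.smul_mem _ _ (mem_baseChange_of_maps A T h hx))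
  have key := det_one_sub_T (F := F') hF' hρ' hq hTF' hTD hT' hR a ha hle
  -- compare
  refine Eq.trans ?_ key
  rw [← LinearMap.det_conj _ (quotEquiv A (F a)).symm]
  congr 1
  refine LinearMap.ext fun y => ?_
  obtain ⟨x, rfl⟩ := Submodule.Quotient.mk_surjective _ y
  rw [LinearMap.comp_apply, LinearMap.comp_apply, LinearEquiv.coe_coe, LinearEquiv.coe_coe,
    LinearEquiv.symm_symm, LinearEquiv.symm_apply_eq, quotEquiv_mk, Submodule.mapQ_apply, quotEquiv_mk]
  have h3 : (1 - T') x = x - t • T.baseChange A x := rfl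
  rw [h3, map_sub, map_smul, LinearMap.sub_apply, LinearMap.id_apply, LinearMap.smul_apply]
  congr 2
  rw [← LinearMap.comp_apply, ← LinearMap.comp_apply, ← LinearMap.baseChange_comp,
    ← LinearMap.baseChange_comp]
  congr 2

/-- **The determinant trick.** -/
theorem X_pow_dvd (F : ℕ → Submodule k V) (hF : Antitone F) [∀ a, FiniteDimensional k (V ⧸ F a)]
    {R : Type*} [CommRing R] (ρ : R →+* Module.End k V)
    (hρ : ∀ b, ∃ c, ∀ a, ∀ x ∈ F (a + c), ρ b x ∈ F a)
    (q : ℕ) (hq : 2 ≤ q) (T : Module.End k V) (hTF : ∀ a, ∀ x ∈ F a, T x ∈ F (q * a))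
    (hT : ∀ b, T * ρ b = ρ (b ^ q) * T) (D : ℕ)
    (hR : ∀ n, 1 ≤ n → n < D → Ideal.span (Set.range fun b : R => b ^ q ^ n - b) = ⊤)
    (a : ℕ) (ha : 1 ≤ a) (h : F a ≤ (F a).comap T) :
    (X : k[X]) ^ D ∣ detRev ((F a).mapQ (F a) T h) - 1 := by
  have ht : (Ideal.Quotient.mkₐ k (Ideal.span {(X : k[X]) ^ D}) X) ^ D = 0 := by
    rw [← map_pow]
    exact Ideal.Quotient.eq_zero_iff_mem.mpr (Ideal.mem_span_singleton_self _)
  have h1 := det_eq_one (Ideal.Quotient.mkₐ k (Ideal.span {(X : k[X]) ^ D}) X) F hF ρ hρ q hq T hTF hT D ht hR a ha h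
  rw [← detRev_eval] at h1
  rw [← Ideal.mem_span_singleton, ← Ideal.Quotient.eq, map_one]
  refine Eq.trans ?_ h1
  have h2 : ∀ f : k[X], Ideal.Quotient.mk (Ideal.span {(X : k[X]) ^ D}) f =
      Polynomial.aeval (Ideal.Quotient.mkₐ k (Ideal.span {(X : k[X]) ^ D}) X) f := by
    intro f
    rw [Polynomial.aeval_algHom_apply, Polynomial.aeval_X_left]
    rfl
  exact h2 _

end

end Groth.Agent.Sga4h.H569.DetAT
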