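import Mathlib.LinearAlgebra.Determinant
import Mathlib.LinearAlgebra.Matrix.Charpoly.Coeff
import Mathlib.LinearAlgebra.Matrix.SchurComplement
import Mathlib.LinearAlgebra.Basis.VectorSpace
import Mathlib.RingTheory.TensorProduct.Finite
import Mathlib.RingTheory.TensorProduct.Free
import Mathlib.LinearAlgebra.TensorProduct.Tower
import Mathlib.LinearAlgebra.Quotient.Basic
import Mathlib.Algebra.Exact.Basic
import Mathlib.RingTheory.Nilpotent.Lemmas

/-!
# The reversed characteristic polynomial `det(1 - X φ)` of a linear endomorphism, any universe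

`detRev φ = det(1 - X φ) ∈ R[X]` (same formula as `FinFr.charRev`, which needs `R : Type`).
* `detRev_eq` : in terms of a matrix;
* `detRev_exact` : multiplicative in short exact sequences;
* `detRev_conj`, `detRev_nilp`, `detRev_baseChange`.
-/

set_option autoImplicit false

namespace Groth.Agent.Sga4h.H569.DetRev

open Polynomial

universe u v w

/-- `det(1 - X φ)`. -/
noncomputable def detRev {R : Type u} [CommRing R] {M : Type v} [AddCommGroup M] [Module R M] (φ : M →ₗ[R] M) :
    R[X] :=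
  LinearMap.det (LinearMap.id - (X : R[X]) • φ.baseChange R[X])

/-- `detRev` in terms of a matrix. -/
theorem detRev_eq {R : Type u} [CommRing R] {V : Type v} [AddCommGroup V] [Module R V] {n : Type w} [Fintype n]
    [DecidableEq n] (b : Module.Basis n R V) (φ : V →ₗ[R] V) :
    detRev φ = (LinearMap.toMatrix b b φ).charpolyRev := by
  rw [detRev, ← LinearMap.det_toMatrix (b.baseChange R[X]), Matrix.charpolyRev]
  congr 1
  ext i j
  rw [LinearMap.toMatrix_apply, Module.Basis.baseChange_apply, LinearMap.sub_apply, LinearMap.id_apply,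
    LinearMap.smul_apply, LinearMap.baseChange_tmul, map_sub, map_smul, Finsupp.sub_apply, Finsupp.smul_apply,
    Module.Basis.baseChange_repr_tmul, Module.Basis.baseChange_repr_tmul, Matrix.sub_apply, Matrix.smul_apply,
    Matrix.map_apply, LinearMap.toMatrix_apply]
  simp [Matrix.one_apply, Finsupp.single_apply, Algebra.smul_def, eq_comm]

theorem detRev_conj {R : Type u} [CommRing R] {V : Type v} [AddCommGroup V] [Module R V]
    {W : Type w} [AddCommGroup W] [Module R W] [Module.Free R V] [Module.Finite R V]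
    (e : V ≃ₗ[R] W) (φ : V →ₗ[R] V) (ψ : W →ₗ[R] W) (h : ∀ x, e (φ x) = ψ (e x)) :
    detRev φ = detRev ψ := by
  classical
  let b := Module.Free.chooseBasis R V
  rw [detRev_eq b, detRev_eq (b.map e)]
  congr 1
  ext i j
  rw [LinearMap.toMatrix_apply, LinearMap.toMatrix_apply, Module.Basis.map_apply, ← h,
    Module.Basis.map_repr]
  simp

section Blocks

variable {k : Type u} [Field k]

/-- In a short exact sequence the matrix of the middle endomorphism is block triangular for a suitable basis. -/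
theorem exists_blocks {V₁ : Type*} {V₂ : Type*} {V₃ : Type*} [AddCommGroup V₁] [Module k V₁] [AddCommGroup V₂]
    [Module k V₂]
    [AddCommGroup V₃] [Module k V₃] [FiniteDimensional k V₂]
    (i : V₁ →ₗ[k] V₂) (p : V₂ →ₗ[k] V₃) (φ₁ : V₁ →ₗ[k] V₁) (φ₂ : V₂ →ₗ[k] V₂) (φ₃ : V₃ →ₗ[k] V₃)
    (hi : Function.Injective i) (hp : Function.Surjective p) (hex : Function.Exact i p)
    (h₁ : i ∘ₗ φ₁ = φ₂ ∘ₗ i) (h₂ : p ∘ₗ φ₂ = φ₃ ∘ₗ p) :
    ∃ (n₁ n₃ : ℕ) (b₁ : Module.Basis (Fin n₁) k V₁) (b₃ : Module.Basis (Fin n₃) k V₃)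
      (b₂ : Module.Basis (Fin n₁ ⊕ Fin n₃) k V₂) (B : Matrix (Fin n₁) (Fin n₃) k),
      LinearMap.toMatrix b₂ b₂ φ₂ = Matrix.fromBlocks (LinearMap.toMatrix b₁ b₁ φ₁) B 0
        (LinearMap.toMatrix b₃ b₃ φ₃) := by
  classical
  have : FiniteDimensional k V₁ := FiniteDimensional.of_injective i hi
  have : FiniteDimensional k V₃ := Module.Finite.of_surjective p hp
  obtain ⟨s, hs⟩ := p.exists_rightInverse_of_surjective (LinearMap.range_eq_top.2 hp)
  have hs' : ∀ z, p (s z) = z := fun z => congrArg (fun t => t z) hs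
  let e₀ : (V₁ × V₃) →ₗ[k] V₂ := i.coprod s
  have he₀ : Function.Bijective e₀ := by
    constructor
    · rw [injective_iff_map_eq_zero]
      rintro ⟨x, z⟩ h
      have h' : i x + s z = 0 := h
      have hz : z = 0 := by
        have := congrArg p h'
        rw [map_add, hs', map_zero, (hex (i x)).2 ⟨x, rfl⟩, zero_add] at this
        exact this
      subst hz
      rw [map_zero, add_zero] at h'
      have := hi (h'.trans (map_zero i).symm)
      rw [this]; rfl
    · intro y
      obtain ⟨x, hx⟩ := (hex (y - s (p y))).1 (by rw [map_sub, hs', sub_self])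
      exact ⟨(x, p y), by change i x + s (p y) = y; rw [hx]; abel⟩
  let e := LinearEquiv.ofBijective e₀ he₀
  have he : ∀ x z, e (x, z) = i x + s z := fun x z => rfl
  let b₁ := Module.finBasis k V₁
  let b₃ := Module.finBasis k V₃
  let b₂ := (b₁.prod b₃).map e
  refine ⟨_, _, b₁, b₃, b₂, (LinearMap.toMatrix b₂ b₂ φ₂).toBlocks₁₂, ?_⟩
  have hsymm₁ : ∀ x, e.symm (i x) = (x, 0) := fun x => by
    rw [LinearEquiv.symm_apply_eq, he, map_zero, add_zero]
  have hsymm₂ : ∀ y, (e.symm y).2 = p y := fun y => by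
    obtain ⟨⟨x, z⟩, rfl⟩ := e.surjective y
    rw [LinearEquiv.symm_apply_apply, he, map_add, hs', (hex (i x)).2 ⟨x, rfl⟩, zero_add]
  have h₁' : ∀ x, i (φ₁ x) = φ₂ (i x) := fun x => congrArg (fun t => t x) h₁
  have h₂' : ∀ x, p (φ₂ x) = φ₃ (p x) := fun x => congrArg (fun t => t x) h₂
  ext (j | j) (l | l)
  · have hb : b₂ (Sum.inl l) = i (b₁ l) := by
      change e ((b₁.prod b₃) (Sum.inl l)) = _
      rw [Module.Basis.prod_apply]
      change e (b₁ l, 0) = _
      rw [he, map_zero, add_zero]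
    rw [Matrix.fromBlocks_apply₁₁, LinearMap.toMatrix_apply, LinearMap.toMatrix_apply, hb, ← h₁']
    change (b₁.prod b₃).repr (e.symm (i (φ₁ (b₁ l)))) (Sum.inl j) = _
    rw [hsymm₁, Module.Basis.prod_repr_inl]
  · rfl
  · have hb : b₂ (Sum.inl l) = i (b₁ l) := by
      change e ((b₁.prod b₃) (Sum.inl l)) = _
      rw [Module.Basis.prod_apply]
      change e (b₁ l, 0) = _
      rw [he, map_zero, add_zero]
    rw [Matrix.fromBlocks_apply₂₁, LinearMap.toMatrix_apply, hb, ← h₁']
    change (b₁.prod b₃).repr (e.symm (i (φ₁ (b₁ l)))) (Sum.inr j) = _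
    rw [hsymm₁, Module.Basis.prod_repr_inr]
    simp
  · have hb : b₂ (Sum.inr l) = s (b₃ l) := by
      change e ((b₁.prod b₃) (Sum.inr l)) = _
      rw [Module.Basis.prod_apply]
      change e (0, b₃ l) = _
      rw [he, map_zero, zero_add]
    rw [Matrix.fromBlocks_apply₂₂, LinearMap.toMatrix_apply, LinearMap.toMatrix_apply, hb]
    change (b₁.prod b₃).repr (e.symm (φ₂ (s (b₃ l)))) (Sum.inr j) = _
    rw [Module.Basis.prod_repr_inr, hsymm₂, h₂', hs']

theorem detRev_exact {V₁ : Type*} {V₂ : Type*} {V₃ : Type*} [AddCommGroup V₁] [Module k V₁]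
    [AddCommGroup V₂] [Module k V₂]
    [AddCommGroup V₃] [Module k V₃] [FiniteDimensional k V₂]
    (i : V₁ →ₗ[k] V₂) (p : V₂ →ₗ[k] V₃) (φ₁ : V₁ →ₗ[k] V₁) (φ₂ : V₂ →ₗ[k] V₂) (φ₃ : V₃ →ₗ[k] V₃)
    (hi : Function.Injective i) (hp : Function.Surjective p) (hex : Function.Exact i p)
    (h₁ : i ∘ₗ φ₁ = φ₂ ∘ₗ i) (h₂ : p ∘ₗ φ₂ = φ₃ ∘ₗ p) :
    detRev φ₂ = detRev φ₁ * detRev φ₃ := by
  classical
  obtain ⟨n₁, n₃, b₁, b₃, b₂, B, h⟩ := exists_blocks i p φ₁ φ₂ φ₃ hi hp hex h₁ h₂
  rw [detRev_eq b₁, detRev_eq b₂, detRev_eq b₃, h, Matrix.charpolyRev, Matrix.fromBlocks_map,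
    Matrix.fromBlocks_smul, ← Matrix.fromBlocks_one, sub_eq_add_neg, Matrix.fromBlocks_neg,
    Matrix.fromBlocks_add]
  have : (0 : Matrix (Fin n₃) (Fin n₁) k[X]) + -((X : k[X]) • (0 : Matrix (Fin n₃) (Fin n₁) k).map C) = 0 := by
    ext; simp
  rw [this, Matrix.det_fromBlocks_zero₂₁, ← sub_eq_add_neg, ← sub_eq_add_neg]
  rfl

/-- Multiplicativity along a stable subspace. -/
theorem detRev_submodule {V : Type*} [AddCommGroup V] [Module k V] [FiniteDimensional k V]
    (φ : V →ₗ[k] V) (S : Submodule k V) (hS : ∀ x ∈ S, φ x ∈ S) :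
    detRev φ = detRev (φ.restrict hS) * detRev (S.mapQ S φ hS) := by
  refine detRev_exact S.subtype S.mkQ (φ.restrict hS) φ (S.mapQ S φ hS)
    S.subtype_injective S.mkQ_surjective ?_ ?_ ?_
  · intro y
    constructor
    · intro hy
      exact ⟨⟨y, by simpa using hy⟩, rfl⟩
    · rintro ⟨x, rfl⟩
      simp
  · ext x; rfl
  · ext x; rfl

theorem detRev_of_subsingleton {V : Type*} [AddCommGroup V] [Module k V] [Subsingleton V]
    (φ : V →ₗ[k] V) : detRev φ = 1 := by
  classical
  let b : Module.Basis (Fin 0) k V := Module.Basis.empty V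
  rw [detRev_eq b, Matrix.charpolyRev, Matrix.det_isEmpty]

theorem coeff_zero_detRev {V : Type v} [AddCommGroup V] [Module k V] [FiniteDimensional k V]
    (φ : V →ₗ[k] V) : (detRev φ).coeff 0 = 1 := by
  classical
  rw [detRev_eq (Module.finBasis k V), coeff_zero_eq_eval_zero, Matrix.eval_charpolyRev]

/-- A nilpotent endomorphism has `det(1 - X φ) = 1`. -/
theorem detRev_of_isNilpotent {V : Type v} [AddCommGroup V] [Module k V] [FiniteDimensional k V]
    (φ : V →ₗ[k] V) (h : IsNilpotent φ) : detRev φ = 1 := by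
  classical
  rw [detRev_eq (Module.finBasis k V)]
  have h1 : IsNilpotent (LinearMap.toMatrix (Module.finBasis k V) (Module.finBasis k V) φ) := by
    have := h.map (LinearMap.toMatrixAlgEquiv (Module.finBasis k V))
    exact this
  have h2 := Matrix.isUnit_charpolyRev_of_isNilpotent h1
  obtain ⟨c, -, hc⟩ := Polynomial.isUnit_iff.mp h2
  have h3 := Matrix.eval_charpolyRev
    (M := LinearMap.toMatrix (Module.finBasis k V) (Module.finBasis k V) φ)
  rw [← hc, eval_C] at h3
  rw [← hc, h3, map_one]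

end Blocks

/-- Base change. -/
theorem detRev_map {R : Type u} [CommRing R] {S : Type w} [CommRing S] (f : R →+* S)
    {V : Type v} [AddCommGroup V] [Module R V] {W : Type*} [AddCommGroup W] [Module S W]
    {n : Type*} [Fintype n] [DecidableEq n] (b : Module.Basis n R V) (c : Module.Basis n S W)
    (φ : V →ₗ[R] V) (ψ : W →ₗ[S] W)
    (h : ∀ i j, LinearMap.toMatrix c c ψ i j = f (LinearMap.toMatrix b b φ i j)) :
    detRev ψ = (detRev φ).map f := by
  classical
  rw [detRev_eq b, detRev_eq c, Matrix.charpolyRev, Matrix.charpolyRev, ← Polynomial.coe_mapRingHom,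
    RingHom.map_det]
  congr 1
  refine Matrix.ext fun i j => ?_
  rw [RingHom.mapMatrix_apply, Matrix.map_apply, Matrix.sub_apply, Matrix.sub_apply, map_sub]
  congr 1
  · rw [Matrix.one_apply, Matrix.one_apply]
    split_ifs <;> simp
  · rw [Matrix.smul_apply, Matrix.smul_apply, Matrix.map_apply, Matrix.map_apply, smul_eq_mul,
      smul_eq_mul, map_mul, h]
    simp

end Groth.Agent.Sga4h.H569.DetRev
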