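import Groth.Agent.Sga4h.H569.DetRev
import Groth.Agent.CurvesA.ZFLang
import Mathlib.FieldTheory.Finite.Basic
import Mathlib.RingTheory.Artinian.Module
import Mathlib.LinearAlgebra.Dimension.OrzechProperty
import Mathlib.FieldTheory.Finiteness
import Mathlib.FieldTheory.Cardinality

/-!
# Determinants on the fixed vectors of a `p`-linear map

`K` algebraically closed of characteristic `p`, `W` finite dimensional over `K`, `φ : W →+ W` with
`φ (c • w) = c ^ p • φ w`, `Ψ` a `K`-linear endomorphism commuting with `φ` and equal to `φ^f`, `f ≥ 1`, on a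
set spanning `W`.  Let `N` be an `𝔽_p`-vector space with an injective `α : N →+ W` of range `{w | φ w = w}` and
`F` an endomorphism of `N` with `α ∘ F = Ψ ∘ α`.  Then `det(1 - X F) = det(1 - X Ψ)` in `K[X]` (`detRev_fix`).
-/

set_option autoImplicit false
set_option linter.unusedSectionVars false

namespace Groth.Agent.Sga4h.H569.LangDet

open Polynomial
open Groth.Agent.Sga4h.H569.DetRev

universe u v w

section

variable {K : Type u} [Field K] (p : ℕ) [Fact p.Prime] [CharP K p]
  {W : Type v} [AddCommGroup W] [Module K W]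
  {φ : W →+ W} (hφ : ∀ (c : K) (w : W), φ (c • w) = c ^ p • φ w)
  {N : Type w} [AddCommGroup N] [Module (ZMod p) N] {α : N →+ W}

include hφ in
theorem map_sum_smul {ι : Type*} (s : Finset ι) (c : ι → K) (b : ι → W) :
    φ (∑ i ∈ s, c i • b i) = ∑ i ∈ s, c i ^ p • φ (b i) := by
  rw [map_sum]
  exact Finset.sum_congr rfl fun i _ => hφ _ _

variable (K) in
theorem map_zmod_smul (m : ZMod p) (x : N) :
    α (m • x) = (ZMod.castHom dvd_rfl K m) • α x := by
  have : NeZero p := ⟨(Fact.out : p.Prime).ne_zero⟩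
  have h1 : m = ((m.val : ℕ) : ZMod p) := (ZMod.natCast_zmod_val m).symm
  have h2 : m • x = m.val • x := by
    conv_lhs => rw [h1]
    exact Nat.cast_smul_eq_nsmul _ _ _
  rw [h2, map_nsmul]
  have h3 : ZMod.castHom dvd_rfl K m = (m.val : K) := by
    conv_lhs => rw [h1]
    exact map_natCast _ _
  rw [h3, Nat.cast_smul_eq_nsmul]

include hφ in
/-- Fixed vectors linearly independent over `𝔽_p` are linearly independent over `K`. -/
theorem linearIndependent_fix (hα : Function.Injective α) (hfix : ∀ x, φ (α x) = α x)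
    {ι : Type*} (b : ι → N) (hb : LinearIndependent (ZMod p) b) :
    LinearIndependent K (fun i => α (b i)) := by
  classical
  rw [linearIndependent_iff']
  intro s
  induction s using Finset.induction_on with
  | empty => intro g _ i hi; simp at hi
  | insert i₀ s hi₀ ih =>
    intro g hg
    rw [Finset.sum_insert hi₀] at hg
    have h0 : g i₀ = 0 := by
      by_contra hne
      have h1 : α (b i₀) + ∑ i ∈ s, ((g i₀)⁻¹ * g i) • α (b i) = 0 := by
        have := congrArg (fun w => (g i₀)⁻¹ • w) hg
        simp only [smul_add, smul_zero, smul_smul, Finset.smul_sum] at this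
        rwa [inv_mul_cancel₀ hne, one_smul] at this
      set d : ι → K := fun i => (g i₀)⁻¹ * g i with hd
      have h2 : α (b i₀) + ∑ i ∈ s, (d i) ^ p • α (b i) = 0 := by
        have := congrArg φ h1
        rw [map_add, map_zero, map_sum_smul p hφ, hfix] at this
        simpa only [hfix] using this
      have h3 : ∑ i ∈ s, ((d i) ^ p - d i) • α (b i) = 0 := by
        simp only [sub_smul, Finset.sum_sub_distrib]
        have := h2.trans h1.symm
        exact sub_eq_zero.mpr (add_left_cancel this)
      have h4 := ih _ h3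
      have h5 : ∀ i, ∃ m : ZMod p, i ∈ s → d i = ZMod.castHom dvd_rfl K m := by
        intro i
        by_cases hi : i ∈ s
        · have := h4 i hi
          rw [sub_eq_zero] at this
          have h6 := (Subfield.mem_bot_iff_pow_eq_self K p).mpr this
          rw [← ZMod.fieldRange_castHom_eq_bot p] at h6
          obtain ⟨m, hm⟩ := h6
          exact ⟨m, fun _ => hm.symm⟩
        · exact ⟨0, fun h => absurd h hi⟩
      choose m hm using h5
      have h6 : α (b i₀ + ∑ i ∈ s, m i • b i) = 0 := by
        rw [map_add, map_sum]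
        rw [← h1]
        congr 1
        refine Finset.sum_congr rfl fun i hi => ?_
        rw [map_zmod_smul K p, ← hm i hi]
      have h7 : b i₀ + ∑ i ∈ s, m i • b i = 0 := hα (by rw [h6, map_zero])
      rw [linearIndependent_iff'] at hb
      have h8 := hb (insert i₀ s) (fun i => if i = i₀ then 1 else m i) (by
        rw [Finset.sum_insert hi₀]
        rw [if_pos rfl, one_smul, ← h7]
        congr 1
        refine Finset.sum_congr rfl fun i hi => ?_
        rw [if_neg (by rintro rfl; exact hi₀ hi)]) i₀ (Finset.mem_insert_self _ _)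
      rw [if_pos rfl] at h8
      exact one_ne_zero h8
    rw [h0, zero_smul, zero_add] at hg
    intro i hi
    rcases Finset.mem_insert.mp hi with rfl | hi
    · exact h0
    · exact ih g hg i hi

/-- the `p`-linear map as a semilinear map -/
def semi : W →ₛₗ[frobenius K p] W where
  toFun := φ
  map_add' := map_add φ
  map_smul' c w := by rw [hφ]; rfl

theorem semi_apply (w : W) : semi p hφ w = φ w := rfl

variable (φ) in
/-- the span of the image of `φ^n` -/
def Sn (K : Type u) [Field K] [Module K W] (n : ℕ) : Submodule K W := Submodule.span K (Set.range (φ^[n]))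

theorem Sn_succ_le (n : ℕ) : Sn φ K (n + 1) ≤ Sn φ K n := by
  refine Submodule.span_mono ?_
  rintro _ ⟨w, rfl⟩
  exact ⟨φ w, (Function.iterate_succ_apply φ n w).symm⟩

theorem Sn_anti : Antitone (Sn φ K) := antitone_nat_of_succ_le Sn_succ_le

include hφ in
theorem map_Sn {n : ℕ} {w : W} (hw : w ∈ Sn φ K n) : φ w ∈ Sn φ K (n + 1) := by
  refine Submodule.span_induction (p := fun w _ => φ w ∈ Sn φ K (n + 1)) ?_ ?_ ?_ ?_ hw
  · rintro _ ⟨w, rfl⟩
    refine Submodule.subset_span ⟨w, ?_⟩
    rw [Function.iterate_succ_apply']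
  · rw [map_zero]; exact Submodule.zero_mem _
  · intro x y _ _ hx hy
    rw [map_add]; exact Submodule.add_mem _ hx hy
  · intro a x _ hx
    rw [hφ]; exact Submodule.smul_mem _ _ hx

theorem Sn_succ_eq (n : ℕ) :
    Sn φ K (n + 1) ≤ Submodule.span K (φ '' (Sn φ K n : Set W)) := by
  refine Submodule.span_le.mpr ?_
  rintro _ ⟨w, rfl⟩
  refine Submodule.subset_span ⟨φ^[n] w, Submodule.subset_span ⟨w, rfl⟩, ?_⟩
  rw [Function.iterate_succ_apply']

variable [FiniteDimensional K W]

include hφ in
/-- The stable image. -/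
theorem exists_stable : ∃ n : ℕ, (∀ w ∈ Sn φ K n, φ w ∈ Sn φ K n) ∧
    (∀ w ∈ Sn φ K n, φ w = 0 → w = 0) := by
  classical
  obtain ⟨n, hn⟩ := IsArtinian.monotone_stabilizes (R := K) (M := W)
    ⟨fun n => OrderDual.toDual (Sn φ K n), fun a b hab => Sn_anti hab⟩
  have hn1 : Sn φ K n = Sn φ K (n + 1) := hn (n + 1) (Nat.le_succ n)
  refine ⟨n, fun w hw => ?_, ?_⟩
  · rw [hn1]; exact map_Sn p hφ hw
  · -- a basis is mapped to a basis
    let V := Sn φ K n
    let b := Module.finBasis K V
    have hrepr : ∀ (w : W) (hw : w ∈ V), w = ∑ i, b.repr ⟨w, hw⟩ i • (b i : W) := by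
      intro w hw
      have h := congrArg Subtype.val (b.sum_repr ⟨w, hw⟩)
      rw [AddSubmonoidClass.coe_finsetSum] at h
      exact h.symm
    have hspan : V ≤ Submodule.span K (Set.range fun i => φ (b i : W)) := by
      refine hn1.le.trans ((Sn_succ_eq n).trans (Submodule.span_le.mpr ?_))
      rintro _ ⟨w, hw, rfl⟩
      have h1 : w = ∑ i, b.repr ⟨w, hw⟩ i • (b i : W) := hrepr w hw
      rw [h1, map_sum_smul p hφ]
      exact Submodule.sum_mem _ fun i _ => Submodule.smul_mem _ _ (Submodule.subset_span ⟨i, rfl⟩)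
    have hV : ∀ i, φ (b i : W) ∈ V := fun i => hn1.ge (map_Sn p hφ (b i).2)
    have hli : LinearIndependent K (fun i => (⟨φ (b i : W), hV i⟩ : V)) := by
      refine linearIndependent_of_top_le_span_of_card_eq_finrank ?_ (by simp)
      rintro ⟨x, hx⟩ -
      have h2 := hspan hx
      have h3 : (Set.range fun i => φ (b i : W)) = V.subtype '' (Set.range fun i => (⟨φ (b i : W), hV i⟩ : V)) := by
        ext y
        constructor
        · rintro ⟨i, rfl⟩; exact ⟨_, ⟨i, rfl⟩, rfl⟩
        · rintro ⟨_, ⟨i, rfl⟩, rfl⟩; exact ⟨i, rfl⟩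
      rw [h3, Submodule.span_image] at h2
      obtain ⟨y, hy, hyx⟩ := h2
      have : y = ⟨x, hx⟩ := Subtype.ext hyx
      rwa [this] at hy
    intro w hw h0
    have h1 : w = ∑ i, b.repr ⟨w, hw⟩ i • (b i : W) := hrepr w hw
    rw [h1, map_sum_smul p hφ] at h0
    have h4 : ∑ i, (b.repr ⟨w, hw⟩ i) ^ p • (⟨φ (b i : W), hV i⟩ : V) = 0 := by
      apply Subtype.ext
      simpa using h0
    have h5 := Fintype.linearIndependent_iff.mp hli _ h4
    have h6 : ∀ i, b.repr ⟨w, hw⟩ i = 0 := fun i =>
      pow_eq_zero_iff (Fact.out : p.Prime).ne_zero |>.mp (h5 i)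
    rw [h1]
    exact Finset.sum_eq_zero fun i _ => by rw [h6 i, zero_smul]

variable [IsAlgClosed K]

include hφ in
/-- Some power of `φ` maps `W` to the span of the fixed vectors. -/
theorem exists_iterate_mem (hα : Function.Injective α) (hr : ∀ w, w ∈ Set.range α ↔ φ w = w) :
    Finite N ∧ ∃ n : ℕ, ∀ w, φ^[n] w ∈ Submodule.span K (Set.range α) := by
  classical
  obtain ⟨n, hn, hinj⟩ := exists_stable p hφ (φ := φ) (K := K)
  have hp2 : 2 ≤ p := (Fact.out : p.Prime).two_le
  let V := Sn φ K n
  let ψ : V →ₛₗ[frobenius K p] V :=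
    { toFun := fun v => ⟨φ v.1, hn v.1 v.2⟩
      map_add' := fun a b => Subtype.ext (map_add φ _ _)
      map_smul' := fun c v => Subtype.ext (hφ c v.1) }
  have hψ : Function.Injective ψ := by
    rw [injective_iff_map_eq_zero]
    intro v hv
    exact Subtype.ext (hinj v.1 v.2 (congrArg Subtype.val hv))
  have hcard := Groth.Agent.CurvesA.ZFLang.card_Fix (τ := frobenius K p) hp2 (fun a => rfl) p
    dvd_rfl ψ hψ
  have hfix : ∀ x, φ (α x) = α x := fun x => (hr _).mp ⟨x, rfl⟩
  have hiter : ∀ (m : ℕ) x, φ^[m] (α x) = α x := fun m x => by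
    induction m with
    | zero => rfl
    | succ m ih => rw [Function.iterate_succ_apply', ih, hfix]
  have hαV : ∀ x, α x ∈ V := fun x => Submodule.subset_span ⟨α x, hiter n x⟩
  -- `N ≃ Fix ψ`
  let e : N ≃ Groth.Agent.CurvesA.ZFLang.Fix ψ := Equiv.ofBijective
    (fun x => ⟨⟨α x, hαV x⟩, Subtype.ext (hfix x)⟩) (by
      constructor
      · intro x y hxy
        exact hα (congrArg (fun z => z.1.1) hxy)
      · rintro ⟨⟨v, hv⟩, hv'⟩
        obtain ⟨x, rfl⟩ := (hr v).mpr (congrArg Subtype.val hv')
        exact ⟨x, rfl⟩)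
  have hN : Nat.card N = p ^ Module.finrank K V := (Nat.card_congr e).trans hcard
  have hNfin : Finite N := (Nat.card_pos_iff.mp (by rw [hN]; positivity)).2
  refine ⟨hNfin, n, fun w => ?_⟩
  have : Module.Finite (ZMod p) N := Module.Finite.of_finite
  let b := Module.finBasis (ZMod p) N
  have hr' : Module.finrank (ZMod p) N = Module.finrank K V := by
    have h1 := Module.natCard_eq_pow_finrank (K := ZMod p) (V := N)
    rw [Nat.card_zmod, hN] at h1
    exact (Nat.pow_right_injective hp2 h1).symm
  have hli := linearIndependent_fix (K := K) p hφ hα hfix b b.linearIndependent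
  have hli' : LinearIndependent K (fun i => (⟨α (b i), hαV (b i)⟩ : V)) :=
    LinearIndependent.of_comp V.subtype hli
  have hspan := hli'.span_eq_top_of_card_eq_finrank' (by
    rw [Fintype.card_fin, hr'])
  have hw : φ^[n] w ∈ V := Submodule.subset_span ⟨w, rfl⟩
  have h1 : (⟨φ^[n] w, hw⟩ : V) ∈ (⊤ : Submodule K V) := trivial
  rw [← hspan] at h1
  have h2 := Submodule.mem_map_of_mem (f := V.subtype) h1
  rw [Submodule.map_span] at h2
  refine Submodule.span_mono ?_ h2
  rintro _ ⟨_, ⟨i, rfl⟩, rfl⟩
  exact ⟨b i, rfl⟩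

include hφ in
/-- **Determinants on fixed vectors.** -/
theorem detRev_fix (hα : Function.Injective α) (hr : ∀ w, w ∈ Set.range α ↔ φ w = w)
    (Ψ : W →ₗ[K] W) (hcomm : ∀ w, Ψ (φ w) = φ (Ψ w)) (S : Set W) (hS : Submodule.span K S = ⊤)
    (f : ℕ) (hf : 1 ≤ f) (hSf : ∀ s ∈ S, Ψ s = φ^[f] s)
    (F : N →ₗ[ZMod p] N) (hF : ∀ x, α (F x) = Ψ (α x)) :
    (detRev F).map (ZMod.castHom dvd_rfl K) = detRev Ψ := by
  classical
  obtain ⟨hfinN, n, hn⟩ := exists_iterate_mem (K := K) p hφ hα hr
  have hfix : ∀ x, φ (α x) = α x := fun x => (hr _).mp ⟨x, rfl⟩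
  have : Module.Finite (ZMod p) N := Module.Finite.of_finite
  let b := Module.finBasis (ZMod p) N
  have hli := linearIndependent_fix (K := K) p hφ hα hfix b b.linearIndependent
  let V : Submodule K W := Submodule.span K (Set.range fun i => α (b i))
  have hVα : ∀ x, α x ∈ V := by
    intro x
    rw [← b.sum_repr x, map_sum]
    refine Submodule.sum_mem _ fun i _ => ?_
    rw [map_zmod_smul K p]
    exact Submodule.smul_mem _ _ (Submodule.subset_span ⟨i, rfl⟩)
  have hVeq : Submodule.span K (Set.range α) ≤ V :=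
    Submodule.span_le.mpr (by rintro _ ⟨x, rfl⟩; exact hVα x)
  have hΨV : ∀ v ∈ V, Ψ v ∈ V := by
    intro v hv
    have : V ≤ V.comap Ψ := Submodule.span_le.mpr (by
      rintro _ ⟨i, rfl⟩
      change Ψ (α (b i)) ∈ V
      rw [← hF]
      exact hVα _)
    exact this hv
  -- iterates
  have hφΨ : ∀ (m : ℕ) w, Ψ (φ^[m] w) = φ^[m] (Ψ w) := by
    intro m
    induction m with
    | zero => intro w; rfl
    | succ m ih => intro w; rw [Function.iterate_succ_apply', hcomm, ih, Function.iterate_succ_apply']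
  have hΨn : ∀ (m : ℕ), ∀ s ∈ S, (Ψ ^ m) s = φ^[f * m] s := by
    intro m
    induction m with
    | zero => intro s _; simp
    | succ m ih =>
      intro s hs
      rw [pow_succ', Module.End.mul_apply, ih s hs, hφΨ, hSf s hs, ← Function.iterate_add_apply,
        Nat.mul_succ]
  have hVstab : ∀ (m : ℕ) w, w ∈ V → φ^[m] w ∈ V := by
    have h1 : ∀ w ∈ V, φ w ∈ V := by
      intro w hw
      refine Submodule.span_induction (p := fun w _ => φ w ∈ V) ?_ ?_ ?_ ?_ hw
      · rintro _ ⟨i, rfl⟩
        change φ (α (b i)) ∈ V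
        rw [hfix]; exact hVα _
      · rw [map_zero]; exact V.zero_mem
      · intro x y _ _ hx hy; rw [map_add]; exact V.add_mem hx hy
      · intro a x _ hx; rw [hφ]; exact V.smul_mem _ hx
    intro m
    induction m with
    | zero => intro w hw; exact hw
    | succ m ih => intro w hw; rw [Function.iterate_succ_apply']; exact h1 _ (ih w hw)
  have hnilp : ∀ w, (Ψ ^ n) w ∈ V := by
    intro w
    have hw : w ∈ Submodule.span K S := by rw [hS]; trivial
    refine Submodule.span_induction (p := fun w _ => (Ψ ^ n) w ∈ V) ?_ ?_ ?_ ?_ hw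
    · intro s hs
      rw [hΨn n s hs]
      obtain ⟨m, hm⟩ : ∃ m, f * n = m + n := ⟨f * n - n, by
        have : n ≤ f * n := Nat.le_mul_of_pos_left n (by omega)
        omega⟩
      rw [hm, Function.iterate_add_apply]
      exact hVstab m _ (hVeq (hn s))
    · rw [map_zero]; exact V.zero_mem
    · intro x y _ _ hx hy; rw [map_add]; exact V.add_mem hx hy
    · intro a x _ hx; rw [map_smul]; exact V.smul_mem _ hx
  rw [detRev_submodule Ψ V hΨV, detRev_of_isNilpotent (V.mapQ V Ψ hΨV), mul_one]
  · -- matrices in the two bases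
    let c : Module.Basis (Fin (Module.finrank (ZMod p) N)) K V := Module.Basis.span hli
    have hc : ∀ i, (c i : W) = α (b i) := fun i => congrArg Subtype.val (Module.Basis.span_apply hli i)
    symm
    refine detRev_map (ZMod.castHom dvd_rfl K) b c F (Ψ.restrict hΨV) fun i j => ?_
    rw [LinearMap.toMatrix_apply, LinearMap.toMatrix_apply]
    have h1 : (Ψ.restrict hΨV) (c j) = ∑ i, ZMod.castHom dvd_rfl K (b.repr (F (b j)) i) • c i := by
      apply Subtype.ext
      rw [LinearMap.coe_restrict_apply, hc, ← hF]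
      conv_lhs => rw [← b.sum_repr (F (b j)), map_sum]
      rw [AddSubmonoidClass.coe_finsetSum]
      refine Finset.sum_congr rfl fun i _ => ?_
      rw [map_zmod_smul K p, Submodule.coe_smul, hc]
    rw [h1, map_sum, Finsupp.finsetSum_apply]
    simp [Finsupp.single_apply]
  · refine ⟨n, ?_⟩
    ext w
    have h2 : ∀ m : ℕ, ((V.mapQ V Ψ hΨV) ^ m) (Submodule.Quotient.mk w) = Submodule.Quotient.mk ((Ψ ^ m) w) := by
      intro m
      induction m with
      | zero => rfl
      | succ m ih => rw [pow_succ', Module.End.mul_apply, ih, Submodule.mapQ_apply, pow_succ', Module.End.mul_apply]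
    change ((V.mapQ V Ψ hΨV) ^ n) (Submodule.Quotient.mk w) = 0
    rw [h2, Submodule.Quotient.mk_eq_zero]
    exact hnilp w

end

end Groth.Agent.Sga4h.H569.LangDet
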