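import Groth.Agent.Sga4h.H569.LangDet
import Groth.Agent.Sga4h.H913.LinFrob

/-!
# Linear algebra of the zeta function modulo `p`

The hypotheses of `H913.LinFrob.trace_formula`, `K` algebraically closed:
`det_{F_p}(1 - X g | V) = det_k(1 - X φ₀ ^ f | W₀)`.
-/

set_option autoImplicit false

universe u v w v'

namespace Groth.Agent.Sga4h.H569.LinDet

open Groth.Agent.CurvesA.ASAlg Groth.Agent.Sga4h.H569.DetRev Groth.Agent.Sga4h.H913.LinFrob

variable {k K : Type u} [Field k] [Field K] [Algebra k K]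

theorem detRev_baseChange {W₀ : Type v} {W : Type w} [AddCommGroup W₀] [Module k W₀] [AddCommGroup W] [Module K W]
    [FiniteDimensional k W₀] [Module k W] [IsScalarTower k K W]
    (ρ : W₀ →ₗ[k] W) (hρ : IsBaseChange K ρ) (T₀ : W₀ →ₗ[k] W₀) (T : W →ₗ[K] W)
    (hT : ∀ x, T (ρ x) = ρ (T₀ x)) :
    detRev T = (detRev T₀).map (algebraMap k K) := by
  classical
  let b := Module.finBasis k W₀
  let c : Module.Basis (Fin (Module.finrank k W₀)) K W := (Algebra.TensorProduct.basis K b).map hρ.equiv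
  refine detRev_map (algebraMap k K) b c T₀ T fun i j => ?_
  rw [LinearMap.toMatrix_apply, LinearMap.toMatrix_apply]
  have hc : ∀ i, c i = ρ (b i) := by
    intro i
    change hρ.equiv (Algebra.TensorProduct.basis K b i) = _
    rw [Algebra.TensorProduct.basis_apply, hρ.equiv_tmul, one_smul]
  have h1 : T (c j) = ∑ i, (algebraMap k K (b.repr (T₀ (b j)) i)) • c i := by
    rw [hc, hT]
    conv_lhs => rw [← b.sum_repr (T₀ (b j)), map_sum]
    refine Finset.sum_congr rfl fun i _ => ?_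
    rw [map_smul, hc, algebraMap_smul]
  rw [h1, c.repr_sum_self]

/-- **Linear algebra of the zeta function modulo `p`.** -/
theorem det_formula (p : ℕ) [hp : Fact p.Prime] {W₀ : Type v} {W : Type w} [AddCommGroup W₀] [Module k W₀]
    [AddCommGroup W] [Module K W] [IsAlgClosed K] [FiniteDimensional k W₀] [Module k W] [IsScalarTower k K W]
    (h0 : (p : K) = 0) (f : ℕ) (hf : 0 < f)
    (ρ : W₀ →ₗ[k] W) (hρ : IsBaseChange K ρ)
    (φ₀ : W₀ →+ W₀)
    (φ : W →+ W) (hφ : ∀ (c : K) (w : W), φ (c • w) = c ^ p • φ w) (hρφ : ∀ x, φ (ρ x) = ρ (φ₀ x))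
    (τ : K → K) (hτ : ∀ c, τ (c ^ (p ^ f)) = c)
    (g : W →+ W) (hg : ∀ (c : K) (w : W), g (c • w) = τ c • g w) (hgρ : ∀ x, g (ρ x) = ρ x)
    {V : Type v'} [AddCommGroup V] [Module (ZMod p) V] (α : V →+ W) (hα : Function.Injective α)
    (hr : ∀ w, (∃ v, α v = w) ↔ φ w = w)
    (F : V →ₗ[ZMod p] V) (hF : ∀ v, α (F v) = g (α v))
    (T₀ : W₀ →ₗ[k] W₀) (hT₀ : ∀ x, T₀ x = φ₀^[f] x) :
    (detRev T₀).map (algebraMap k K) = (detRev F).map (zmodHom K p h0) := by
  have hfd : Module.Finite K W := Module.Finite.equiv hρ.equiv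
  have : CharP K p := (CharP.charP_iff_prime_eq_zero hp.out).mpr h0
  -- the extension of `T₀`
  let T : W →ₗ[K] W := hρ.equiv.conj (T₀.baseChange K)
  have hT : ∀ x, T (ρ x) = ρ (T₀ x) := by
    intro x
    change hρ.equiv ((T₀.baseChange K) (hρ.equiv.symm (ρ x))) = _
    rw [hρ.equiv_symm_apply, LinearMap.baseChange_tmul, hρ.equiv_tmul, one_smul]
  rw [← detRev_baseChange ρ hρ T₀ T hT]
  have hρφn : ∀ (n : ℕ) (x : W₀), φ^[n] (ρ x) = ρ (φ₀^[n] x) := by
    intro n x
    induction n with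
    | zero => rfl
    | succ n ih => rw [Function.iterate_succ_apply', ih, hρφ, Function.iterate_succ_apply']
  have hgφ : ∀ w, g (φ^[f] w) = T w := by
    intro w
    refine hρ.inductionOn w _ ?_ ?_ ?_ ?_
    · rw [iterate_zero', map_zero, map_zero]
    · intro x
      rw [hρφn, hgρ, hT, hT₀]
    · intro c w hw
      rw [iterate_smul p φ hφ, hg, hτ, hw, map_smul]
    · intro x y hx hy
      rw [iterate_add, map_add, hx, hy, map_add]
  have hfix : ∀ (n : ℕ) (w : W), φ w = w → φ^[n] w = w := by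
    intro n w hw
    induction n with
    | zero => rfl
    | succ n ih => rw [Function.iterate_succ_apply', ih, hw]
  have hTα : ∀ v, α (F v) = T (α v) := by
    intro v
    rw [← hgφ, hfix f _ ((hr _).1 ⟨v, rfl⟩), hF]
  have hcommρ : ∀ x, T (φ (ρ x)) = φ (T (ρ x)) := by
    intro x
    rw [hρφ, hT, hT, hρφ, hT₀, hT₀, ← Function.iterate_succ_apply, Function.iterate_succ_apply']
  have hcomm : ∀ w, T (φ w) = φ (T w) := by
    intro w
    refine hρ.inductionOn w _ ?_ ?_ ?_ ?_
    · rw [map_zero, map_zero, map_zero]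
    · exact hcommρ
    · intro c w hw
      rw [hφ, map_smul, hw, map_smul, hφ]
    · intro x y hx hy
      rw [map_add, map_add, hx, hy, map_add, map_add]
  refine (LangDet.detRev_fix p hφ hα (fun w => ?_) T hcomm (Set.range ρ) ?_ f hf ?_ F hTα).symm
  · exact hr w
  · rw [eq_top_iff]
    intro w _
    refine hρ.inductionOn w _ ?_ ?_ ?_ ?_
    · exact Submodule.zero_mem _
    · intro x
      exact Submodule.subset_span ⟨x, rfl⟩
    · intro c w hw
      exact Submodule.smul_mem _ _ hw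
    · intro x y hx hy
      exact Submodule.add_mem _ hx hy
  · rintro _ ⟨x, rfl⟩
    rw [hT, hT₀, hρφn]

end Groth.Agent.Sga4h.H569.LinDet
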