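import Groth.Agent.Sga4h.H569.DetRev
import Mathlib.Algebra.BigOperators.Finprod

/-!
# Transport of coefficient identities along field homomorphisms
-/

set_option autoImplicit false

universe u v w

namespace Groth.Agent.Sga4h.H569.PolyTr

open Polynomial

theorem map_finprod' {R : Type u} {S : Type v} [CommRing R] [CommRing S] (f : R →+* S) {ι : Type w} [Finite ι]
    (d : ι → ℕ) : (∏ᶠ i, (1 - (X : R[X]) ^ d i)).map f = ∏ᶠ i, (1 - (X : S[X]) ^ d i) := by
  classical
  have := Fintype.ofFinite ι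
  rw [finprod_eq_prod_of_fintype, finprod_eq_prod_of_fintype, Polynomial.map_prod]
  exact Finset.prod_congr rfl fun i _ => by simp

/-- descend and extend a coefficient identity -/
theorem coeff_transport {k : Type u} {K : Type v} {P Λ : Type*} [Field k] [Field K] [Field P] [Field Λ]
    (f : k →+* K) (g : P →+* K) (h : P →+* Λ) {ι : Type w} [Finite ι] (d : ι → ℕ)
    {t₁ t₀ : k[X]} {c₁ c₀ : P[X]} (h₁ : t₁.map f = c₁.map g) (h₀ : t₀.map f = c₀.map g) (N : ℕ)
    (H : ∀ m ≤ N, ((∏ᶠ i, (1 - (X : k[X]) ^ d i)) * t₁).coeff m = t₀.coeff m) (m : ℕ) (hm : m ≤ N) :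
    ((∏ᶠ i, (1 - (X : Λ[X]) ^ d i)) * c₁.map h).coeff m = (c₀.map h).coeff m := by
  have h1 : (((∏ᶠ i, (1 - (X : P[X]) ^ d i)) * c₁).map g).coeff m = (c₀.map g).coeff m := by
    rw [Polynomial.map_mul, map_finprod', ← h₁, ← h₀, ← map_finprod' f, ← Polynomial.map_mul, coeff_map, coeff_map,
      H m hm]
  have h2 : ((∏ᶠ i, (1 - (X : P[X]) ^ d i)) * c₁).coeff m = c₀.coeff m := by
    rw [coeff_map, coeff_map] at h1
    exact g.injective h1
  rw [← map_finprod' h, ← Polynomial.map_mul, coeff_map, h2, coeff_map]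

end Groth.Agent.Sga4h.H569.PolyTr
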