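import Groth.Agent.Sga4h.H569.ZetaPts

/-!
# Residue fields of closed points over a finite field are finite
-/

set_option autoImplicit false

universe u

open CategoryTheory CategoryTheory.Limits AlgebraicGeometry Opposite TopologicalSpace

namespace Groth.Agent.Sga4h.H569.ResFin

open Groth.Agent.Sga4h.H569.CohRings Groth.Agent.Sga4h.H569.ZetaPts Groth.Agent.Sga4h.H569.CurvePts

attribute [local instance] algΓ algκ

theorem finite_residueField' {k : Type u} [Field k] [Finite k] {Y : Scheme.{u}} [Y.Over (Spec (CommRingCat.of k))]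
    [LocallyOfFiniteType (Y ↘ Spec (CommRingCat.of k))] (x : Y) (hcl : IsClosed ({x} : Set Y)) :
    Finite (Y.residueField x : Type u) := by
  obtain ⟨V, hV, hxV, -⟩ := exists_isAffineOpen_mem_and_subset (X := Y) (x := x) (U := ⊤) trivial
  have : (kerEv V x hxV).IsMaximal := isMaximal_ker hV x hxV hcl
  have h1 := finite_quot (k := k) hV (kerEv V x hxV)
  have h2 : Module.Finite k (Y.residueField x) := Module.Finite.equiv (quotEquiv (k := k) hV x hxV hcl).toLinearEquiv
  exact Module.finite_of_finite k

theorem finite_residueField {k : Type u} [Field k] [Finite k] {Y : Scheme.{u}} (b : Y ⟶ Spec (CommRingCat.of k))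
    [LocallyOfFiniteType b] (x : Y) (hcl : IsClosed ({x} : Set Y)) :
    Finite (Y.residueField x : Type u) := by
  let _ : Y.Over (Spec (CommRingCat.of k)) := ⟨b⟩
  have : LocallyOfFiniteType (Y ↘ Spec (CommRingCat.of k)) := ‹LocallyOfFiniteType b›
  exact finite_residueField' (k := k) x hcl

end Groth.Agent.Sga4h.H569.ResFin
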