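import Groth.Agent.Sga4h.H569.ZetaMain

/-!
# The coherent zeta function of a proper integral curve over a finite field: products over closed points
-/

set_option autoImplicit false
set_option linter.unusedSectionVars false

universe u

open CategoryTheory CategoryTheory.Limits AlgebraicGeometry Opposite TopologicalSpace

namespace Groth.Agent.Sga4h.H569.ZetaCoh

open Polynomial
open Groth.Agent.Sga4h.H569.CohRings Groth.Agent.Sga4h.H569.DetRev

section Alg

variable {R : Type u} [CommRing R]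

/-- Factors `1 - X^d` with `d > N` do not matter modulo `X^(N+1)`. -/
theorem dvd_prod_sub_one {ι : Type*} (s : Finset ι) (d : ι → ℕ) (N : ℕ) (hd : ∀ i ∈ s, N < d i) :
    (X : R[X]) ^ (N + 1) ∣ (∏ i ∈ s, (1 - X ^ d i)) - 1 := by
  rw [← Ideal.mem_span_singleton, ← Ideal.Quotient.mk_eq_mk_iff_sub_mem, map_prod, map_one]
  refine Finset.prod_eq_one fun i hi => ?_
  have h1 : (Ideal.Quotient.mk (Ideal.span {(X : R[X]) ^ (N + 1)})) (X ^ d i) = 0 := by
    rw [Ideal.Quotient.eq_zero_iff_mem, Ideal.mem_span_singleton]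
    exact pow_dvd_pow _ (hd i hi)
  rw [map_sub, map_one, h1, sub_zero]

theorem coeff_eq_of_dvd {N : ℕ} {f g : R[X]} (h : (X : R[X]) ^ (N + 1) ∣ f - g) (m : ℕ) (hm : m ≤ N) :
    f.coeff m = g.coeff m := by
  have := (X_pow_dvd_iff.mp h) m (by omega)
  rwa [coeff_sub, sub_eq_zero] at this

/-- Passage from a finite set containing all points of degree `≤ N` to the product over those points. -/
theorem coeff_finprod {α : Type u} (C : Set α) (deg : α → ℕ) (N : ℕ) (D : Finset α) (hDC : ∀ x ∈ D, x ∈ C)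
    (hD : ∀ x ∈ C, deg x ≤ N → x ∈ D) (f g : R[X])
    (h : (X : R[X]) ^ (N + 1) ∣ (∏ x ∈ D, (1 - X ^ deg x)) * f - g) (m : ℕ) (hm : m ≤ N) :
    ((∏ᶠ x : {x : {x : α // x ∈ C} // deg x.1 ≤ N}, (1 - (X : R[X]) ^ deg x.1.1)) * f).coeff m = g.coeff m := by
  classical
  have h1 : (∏ᶠ x : {x : {x : α // x ∈ C} // deg x.1 ≤ N}, (1 - (X : R[X]) ^ deg x.1.1)) =
      ∏ x ∈ D.filter (fun x => deg x ≤ N), (1 - X ^ deg x) := by
    have hfin : Finite {x : {x : α // x ∈ C} // deg x.1 ≤ N} := by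
      refine Finite.of_injective (β := D) (fun x => ⟨x.1.1, hD _ x.1.2 x.2⟩) ?_
      intro x y hxy
      have hxy' : x.1.1 = y.1.1 := congrArg (fun z : D => (z : α)) hxy
      exact Subtype.ext (Subtype.ext hxy')
    have := Fintype.ofFinite {x : {x : α // x ∈ C} // deg x.1 ≤ N}
    rw [finprod_eq_prod_of_fintype]
    refine Finset.prod_bij (fun x _ => x.1.1) ?_ ?_ ?_ ?_
    · intro x _
      exact Finset.mem_filter.mpr ⟨hD _ x.1.2 x.2, x.2⟩
    · intro x _ y _ hxy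
      exact Subtype.ext (Subtype.ext hxy)
    · intro x hx
      obtain ⟨hx1, hx2⟩ := Finset.mem_filter.mp hx
      exact ⟨⟨⟨x, hDC x hx1⟩, hx2⟩, Finset.mem_univ _, rfl⟩
    · intro x _
      rfl
  rw [h1]
  refine coeff_eq_of_dvd ?_ m hm
  have h2 := dvd_prod_sub_one (R := R) (D.filter (fun x => ¬ deg x ≤ N)) deg N
    (fun i hi => not_le.mp (Finset.mem_filter.mp hi).2)
  rw [← Finset.prod_filter_mul_prod_filter_not D (fun x => deg x ≤ N)] at h
  have h3 : (X : R[X]) ^ (N + 1) ∣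
      (∏ x ∈ D.filter (fun x => deg x ≤ N), (1 - X ^ deg x)) * f *
        ((∏ x ∈ D.filter (fun x => ¬ deg x ≤ N), (1 - X ^ deg x)) - 1) := Dvd.dvd.mul_left h2 _
  have h4 := dvd_sub h h3
  convert h4 using 1
  ring

end Alg

variable {k : Type u} [Field k] [Fintype k] {Y : Scheme.{u}} [Y.Over (Spec (CommRingCat.of k))]

/-- **The coherent zeta function of a proper integral curve over a finite field**, coefficientwise, for a given affine
cover. -/
theorem zeta_coh_cover [IsProper (Y ↘ Spec (CommRingCat.of k))] [IsIntegral Y] (N : ℕ)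
    {U W : Y.Opens} (hcov : U ⊔ W = ⊤)
    (hU : IsAffineOpen U) (hW : IsAffineOpen W) (D : Finset Y) (hUD : (U : Set Y) = (D : Set Y)ᶜ)
    (hDcl : ∀ x ∈ D, IsClosed ({x} : Set Y)) (hDW : ∀ x ∈ D, x ∈ W) (hD : D.Nonempty)
    (hne : Nonempty (U ⊓ W : Y.Opens))
    (hN : ∀ x : Y, IsClosed ({x} : Set Y) → FinFr.ptDeg (Y ↘ Spec (CommRingCat.of k)) x ≤ N → x ∈ D)
    (φ : Coh.toAb (Coh.structureModule Y) ⟶ Coh.toAb (Coh.structureModule Y))
    (hφ : ∀ (V : Y.Opens) (t : Γ(Y, V)), secMap φ V t = t ^ Fintype.card k)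
    (T₀ : Hk k Y 0 →ₗ[k] Hk k Y 0) (hT₀ : ∀ x, T₀ x = mapHk k φ 0 x)
    (T₁ : Hk k Y 1 →ₗ[k] Hk k Y 1) (hT₁ : ∀ x, T₁ x = mapHk k φ 1 x) (m : ℕ) (hm : m ≤ N) :
    ((∏ᶠ x : {x : FinFr.ClosedPt Y // FinFr.ptDeg (Y ↘ Spec (CommRingCat.of k)) x.1 ≤ N},
      (1 - (X : k[X]) ^ FinFr.ptDeg (Y ↘ Spec (CommRingCat.of k)) x.1.1)) * detRev T₁).coeff m = (detRev T₀).coeff m :=
  coeff_finprod {x : Y | IsClosed ({x} : Set Y)} (FinFr.ptDeg (Y ↘ Spec (CommRingCat.of k))) N D hDcl hN _ _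
    (ZetaMain.main_cover hcov hU hW D hUD hDcl hDW hD N hN φ hφ T₀ hT₀ T₁ hT₁) m hm

end Groth.Agent.Sga4h.H569.ZetaCoh
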