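import Groth.Agent.Sga4h.H569.ZetaCoh
import Groth.Agent.Sga4h.H569.CohFrob
import Groth.Agent.Sga4h.H883.CurveCover

/-!
# The coherent zeta function of a proper integral curve over a finite field
-/

set_option autoImplicit false

universe u

open CategoryTheory CategoryTheory.Limits AlgebraicGeometry Opposite TopologicalSpace

namespace Groth.Agent.Sga4h.H569.ZetaCurve

open Polynomial
open Groth.Agent.Sga4h.H569.CohRings Groth.Agent.Sga4h.H569.DetRev Groth.Agent.Sga4h.H569.CohFrob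

variable {k : Type u} [Field k] [Fintype k] {Y : Scheme.{u}} [Y.Over (Spec (CommRingCat.of k))]

/-- **The coherent zeta function of a proper integral curve over a finite field**, coefficientwise. -/
theorem zeta_coh [IsProper (Y ↘ Spec (CommRingCat.of k))] [IsIntegral Y] (hdim : topologicalKrullDim Y = 1) (N : ℕ)
    (hfin : Finite {x : FinFr.ClosedPt Y // FinFr.ptDeg (Y ↘ Spec (CommRingCat.of k)) x.1 ≤ N})
    (φ : Coh.toAb (Coh.structureModule Y) ⟶ Coh.toAb (Coh.structureModule Y))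
    (hφ : ∀ (V : Y.Opens) (t : Γ(Y, V)), secMap φ V t = t ^ Fintype.card k)
    (T₀ : Hk k Y 0 →ₗ[k] Hk k Y 0) (hT₀ : ∀ x, T₀ x = mapHk k φ 0 x)
    (T₁ : Hk k Y 1 →ₗ[k] Hk k Y 1) (hT₁ : ∀ x, T₁ x = mapHk k φ 1 x) (m : ℕ) (hm : m ≤ N) :
    ((∏ᶠ x : {x : FinFr.ClosedPt Y // FinFr.ptDeg (Y ↘ Spec (CommRingCat.of k)) x.1 ≤ N},
      (1 - (X : k[X]) ^ FinFr.ptDeg (Y ↘ Spec (CommRingCat.of k)) x.1.1)) * detRev T₁).coeff m =
      (detRev T₀).coeff m := by
  let S : Set Y := {x | IsClosed ({x} : Set Y) ∧ FinFr.ptDeg (Y ↘ Spec (CommRingCat.of k)) x ≤ N}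
  have hS : S.Finite := by
    refine Set.Finite.subset (Set.finite_range
      (fun x : {x : FinFr.ClosedPt Y // FinFr.ptDeg (Y ↘ Spec (CommRingCat.of k)) x.1 ≤ N} => x.1.1)) ?_
    rintro x ⟨h1, h2⟩
    exact ⟨⟨⟨x, h1⟩, h2⟩, rfl⟩
  obtain ⟨D, y, U, W, hSD, hDcl, hD, hy, hyD, hUD, hWy, hU, hW, hcov⟩ :=
    H883.CurveCover.exists_cover (Y ↘ Spec (CommRingCat.of k)) hdim S hS (fun x hx => hx.1)
  have hDW : ∀ x ∈ D, x ∈ W := by
    intro x hx
    change x ∈ (W : Set Y)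
    rw [hWy]
    rintro rfl
    exact hyD hx
  have hgenU : genericPoint Y ∈ U := by
    change genericPoint Y ∈ (U : Set Y)
    rw [hUD]
    intro h
    have h1 : (Set.univ : Set Y) ⊆ {genericPoint Y} := by
      rw [← genericPoint_closure (α := Y)]
      exact closure_minimal (Set.singleton_subset_iff.mpr rfl) (hDcl _ h)
    have h2 : y ∈ ({genericPoint Y} : Set Y) := h1 trivial
    have h3 : y = genericPoint Y := h2
    exact hyD (h3 ▸ h)
  have hgenW : genericPoint Y ∈ W := by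
    change genericPoint Y ∈ (W : Set Y)
    rw [hWy]
    intro h
    have h0 : genericPoint Y = y := h
    have h1 : (Set.univ : Set Y) ⊆ {genericPoint Y} := by
      rw [← genericPoint_closure (α := Y)]
      exact closure_minimal (Set.singleton_subset_iff.mpr rfl) (h0 ▸ hy)
    obtain ⟨d, hd⟩ := hD
    have h2 : d ∈ ({genericPoint Y} : Set Y) := h1 trivial
    have h3 : d = genericPoint Y := h2
    exact hyD (h0 ▸ h3 ▸ hd)
  exact ZetaCoh.zeta_coh_cover N hcov hU hW D hUD hDcl hDW hD ⟨⟨genericPoint Y, hgenU, hgenW⟩⟩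
    (fun x h1 h2 => hSD ⟨h1, h2⟩) φ hφ T₀ hT₀ T₁ hT₁ m hm

end Groth.Agent.Sga4h.H569.ZetaCurve
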