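import Groth.Agent.Sga4h.H569.ZetaPts
import Groth.Agent.CohqB.FinTheoryInst
import Groth.Agent.CurvesB.UnitCoh

/-!
# The coherent zeta function of a proper integral curve over a finite field

`Y` integral, proper over the finite field `k`, `Y = U ∪ W` with `U = Y \ D`, `W` affine, `D` a finite set of
closed points containing those of degree `≤ N`.
-/

set_option autoImplicit false
set_option linter.unusedSectionVars false

universe u

open CategoryTheory CategoryTheory.Limits AlgebraicGeometry Opposite TopologicalSpace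

namespace Groth.Agent.Sga4h.H569.ZetaMain

open Polynomial
open Groth.Agent.Sga4h.H569.CurvePts Groth.Agent.Sga4h.H569.CohRings Groth.Agent.Sga4h.H569.ZetaPts
open Groth.Agent.Sga4h.H569.CurveAlg Groth.Agent.Sga4h.H569.DetRev

attribute [local instance] algΓ algκ

variable {k : Type u} [Field k] {Y : Scheme.{u}} [Y.Over (Spec (CommRingCat.of k))]

/-- finiteness of `H^n(Y, O)` -/
theorem finite_Hk [IsProper (Y ↘ Spec (CommRingCat.of k))] (n : ℕ) : FiniteDimensional k (Hk k Y n) :=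
  Groth.Agent.CohqB.FinTheoryInst.allFin (Y ↘ Spec (CommRingCat.of k)) _
    (Groth.Agent.CurvesB.UnitCoh.isCoh_structureModule Y) n

theorem finite_top [IsProper (Y ↘ Spec (CommRingCat.of k))] : FiniteDimensional k Γ(Y, ⊤) := by
  have := finite_Hk (k := k) (Y := Y) 0
  exact Module.Finite.equiv (H0L k Y)

variable [IsIntegral Y] {U W : Y.Opens}

/-- `Γ(W) = A₂` -/
noncomputable def e₂ (k : Type u) [Field k] {Y : Scheme.{u}} [Y.Over (Spec (CommRingCat.of k))] [IsIntegral Y]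
    (U W : Y.Opens) [Nonempty (U ⊓ W : Y.Opens)] : Γ(Y, W) ≃ₐ[k] A₂ k U W :=
  AlgEquiv.ofInjective (resA k (inf_le_right : U ⊓ W ≤ W)) (resA_injective _)

/-- `Γ(U) = A₁` -/
noncomputable def e₁ (k : Type u) [Field k] {Y : Scheme.{u}} [Y.Over (Spec (CommRingCat.of k))] [IsIntegral Y]
    (U W : Y.Opens) [Nonempty (U ⊓ W : Y.Opens)] : Γ(Y, U) ≃ₐ[k] A₁ k U W :=
  AlgEquiv.ofInjective (resA k (inf_le_left : U ⊓ W ≤ U)) (resA_injective _)

variable [Nonempty (U ⊓ W : Y.Opens)]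

theorem e₂_coe (s : Γ(Y, W)) : ((e₂ k U W s : A₂ k U W) : Γ(Y, U ⊓ W)) = resA k inf_le_right s := rfl

theorem e₁_coe (s : Γ(Y, U)) : ((e₁ k U W s : A₁ k U W) : Γ(Y, U ⊓ W)) = resA k inf_le_left s := rfl

/-- the maximal ideals of `A₂` -/
noncomputable def mId (k : Type u) [Field k] {Y : Scheme.{u}} [Y.Over (Spec (CommRingCat.of k))] [IsIntegral Y]
    (U W : Y.Opens) [Nonempty (U ⊓ W : Y.Opens)] (x : Y) (hx : x ∈ W) : Ideal (A₂ k U W) :=
  (kerEv W x hx).comap (e₂ k U W).symm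

theorem e₂_mem_mId (x : Y) (hx : x ∈ W) (s : Γ(Y, W)) :
    e₂ k U W s ∈ mId k U W x hx ↔ s ∈ kerEv W x hx := by
  rw [mId, Ideal.mem_comap, AlgEquiv.symm_apply_apply]

/-- a quotient of an algebra transported along an isomorphism -/
noncomputable def quotComapEquiv {A B : Type u} [CommRing A] [CommRing B] [Algebra k A] [Algebra k B]
    (e : A ≃ₐ[k] B) (I : Ideal B) : (A ⧸ I.comap e) ≃ₗ[k] (B ⧸ I) :=
  let f : A →ₐ[k] (B ⧸ I) := (Ideal.Quotient.mkₐ k I).comp e.toAlgHom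
  have hf : Function.Surjective f := (Ideal.Quotient.mkₐ_surjective k I).comp e.surjective
  have hk : I.comap e = RingHom.ker f := by
    ext x
    rw [Ideal.mem_comap, RingHom.mem_ker]
    exact Ideal.Quotient.eq_zero_iff_mem.symm
  (Ideal.quotientEquivAlgOfEq k hk).toLinearEquiv.trans
    (Ideal.quotientKerAlgEquivOfSurjective (f := f) hf).toLinearEquiv

theorem finrank_mId (hW : IsAffineOpen W) (x : Y) (hx : x ∈ W) (hcl : IsClosed ({x} : Set Y)) :
    Module.finrank k (A₂ k U W ⧸ mId k U W x hx) = FinFr.ptDeg (Y ↘ Spec (CommRingCat.of k)) x := by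
  rw [← finrank_quot hW x hx hcl]
  exact (quotComapEquiv (e₂ k U W).symm (kerEv W x hx)).finrank_eq

theorem isMaximal_mId (hW : IsAffineOpen W) (x : Y) (hx : x ∈ W) (hcl : IsClosed ({x} : Set Y)) :
    (mId k U W x hx).IsMaximal := by
  have := isMaximal_ker hW x hx hcl
  have h : (kerEv W x hx).IsMaximal := this
  exact Ideal.comap_isMaximal_of_equiv (e₂ k U W).symm

theorem finite_mId [LocallyOfFiniteType (Y ↘ Spec (CommRingCat.of k))] (hW : IsAffineOpen W) (x : Y) (hx : x ∈ W)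
    (hcl : IsClosed ({x} : Set Y)) :
    FiniteDimensional k (A₂ k U W ⧸ mId k U W x hx) := by
  have : (kerEv W x hx).IsMaximal := isMaximal_ker hW x hx hcl
  have := finite_quot (k := k) hW (kerEv W x hx)
  exact Module.Finite.equiv (quotComapEquiv (e₂ k U W).symm (kerEv W x hx)).symm

theorem mId_injective (hW : IsAffineOpen W) {x x' : Y} (hx : x ∈ W) (hx' : x' ∈ W)
    (h : mId k U W x hx = mId k U W x' hx') : x = x' := by
  refine kerEv_injective hW hx hx' ?_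
  ext s
  rw [← e₂_mem_mId (k := k) (U := U), ← e₂_mem_mId (k := k) (U := U), h]

/-- boundedness -/
theorem hbdd (hW : IsAffineOpen W) (D : Set Y) (hUD : (U : Set Y) = Dᶜ) (hDW : ∀ x ∈ D, x ∈ W)
    (b : Γ(Y, U ⊓ W)) (hb : b ∈ A₁ k U W) (g : A₂ k U W)
    (hg : ∀ x (hx : x ∈ D), g ∈ mId k U W x (hDW x hx)) :
    ∃ n : ℕ, b * (g : Γ(Y, U ⊓ W)) ^ n ∈ A₂ k U W := by
  obtain ⟨β, hβ⟩ := hb
  obtain ⟨γ, hγg⟩ := (e₂ k U W).surjective g
  have hgγ : (g : Γ(Y, U ⊓ W)) = resA k inf_le_right γ := by rw [← hγg]; rfl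
  by_cases hγ : γ = 0
  · refine ⟨1, ?_⟩
    rw [hgγ, hγ, map_zero, pow_one, mul_zero]
    exact Subalgebra.zero_mem _
  have hle : Y.basicOpen γ ≤ U ⊓ W := by
    refine le_inf ?_ (Y.basicOpen_le γ)
    intro x hx
    change x ∈ (U : Set Y)
    rw [hUD]
    intro hxD
    have h1 := hg x hxD
    rw [← hγg, e₂_mem_mId, mem_kerEv_iff] at h1
    exact h1 hx
  have hne : Nonempty (Y.basicOpen γ) := by
    by_contra h
    rw [not_nonempty_iff] at h
    have h1 : Y.basicOpen γ = ⊥ := by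
      ext x
      constructor
      · intro hx; exact (h.false ⟨x, hx⟩).elim
      · intro hx; exact hx.elim
    exact hγ ((basicOpen_eq_bot_iff γ).mp h1)
  have hloc : IsLocalization.Away γ Γ(Y, Y.basicOpen γ) := hW.isLocalization_basicOpen γ
  obtain ⟨⟨a, t⟩, hat⟩ := IsLocalization.surj (Submonoid.powers γ)
    (resA k (hle.trans inf_le_left) β : Γ(Y, Y.basicOpen γ))
  obtain ⟨n, hn⟩ := t.2
  refine ⟨n, a, ?_⟩
  apply resA_injective (k := k) hle
  rw [hgγ, ← hβ]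
  change resA k hle (resA k (inf_le_right : U ⊓ W ≤ W) a) =
    resA k hle (resA k (inf_le_left : U ⊓ W ≤ U) β * (resA k (inf_le_right : U ⊓ W ≤ W) γ) ^ n)
  rw [map_mul, map_pow, resA_resA, resA_resA, resA_resA, ← map_pow]
  have h2 : (γ ^ n : Γ(Y, W)) = t := hn
  rw [h2]
  exact hat.symm

theorem hint [IsProper (Y ↘ Spec (CommRingCat.of k))] (hcov : U ⊔ W = ⊤) (x : Y) (hx : x ∈ W) (g : A₂ k U W)
    (hg₁ : (g : Γ(Y, U ⊓ W)) ∈ A₁ k U W) (hg : g ∈ mId k U W x hx) : g = 0 := by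
  obtain ⟨t, ht⟩ := (equivTop (k := k) hcov).surjective ⟨(g : Γ(Y, U ⊓ W)), hg₁, g.2⟩
  have ht' : resA k (le_top : U ⊓ W ≤ ⊤) t = (g : Γ(Y, U ⊓ W)) := congrArg Subtype.val ht
  have h1 : e₂ k U W (resA k le_top t) = g := by
    apply Subtype.ext
    rw [e₂_coe, resA_resA, ht']
  have h2 : t = 0 := by
    refine eq_zero_of_evaluation (k := k) finite_top t x ?_
    rw [← h1, e₂_mem_mId, mem_kerEv_iff] at hg
    intro hxt
    apply hg
    change x ∈ Y.basicOpen ((Y.presheaf.map (homOfLE (le_top : W ≤ ⊤)).op).hom t)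
    rw [Scheme.basicOpen_res]
    exact ⟨hx, hxt⟩
  rw [← h1, h2, map_zero, map_zero]

theorem hnp [JacobsonSpace Y] [LocallyOfFiniteType (Y ↘ Spec (CommRingCat.of k))] (hU : IsAffineOpen U) (N : ℕ)
    (hN : ∀ x ∈ U, IsClosed ({x} : Set Y) → N < FinFr.ptDeg (Y ↘ Spec (CommRingCat.of k)) x)
    (M : Ideal (A₁ k U W)) (hM : M.IsMaximal) : N < Module.finrank k (A₁ k U W ⧸ M) := by
  have h1 : (M.comap (e₁ k U W)).IsMaximal := Ideal.comap_isMaximal_of_equiv (e₁ k U W)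
  obtain ⟨x, hx, hcl, hxM⟩ := exists_of_isMaximal hU (M.comap (e₁ k U W))
  have h2 := hN x hx hcl
  rw [← finrank_quot hU x hx hcl] at h2
  have h3 : kerEv U x hx = M.comap (e₁ k U W) := hxM
  rw [h3, (quotComapEquiv (e₁ k U W) M).finrank_eq] at h2
  exact h2

theorem hP (hU : Fintype k) : ∀ x ∈ Subalgebra.toSubmodule (A₁ k U W) ⊔ Subalgebra.toSubmodule (A₂ k U W),
      x ^ Fintype.card k ∈ Subalgebra.toSubmodule (A₁ k U W) ⊔ Subalgebra.toSubmodule (A₂ k U W) := by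
  intro x hx
  obtain ⟨a, ha, b, hb, rfl⟩ := Submodule.mem_sup.mp hx
  rw [add_pow_card k]
  exact Submodule.add_mem_sup (Subalgebra.pow_mem _ ha _) (Subalgebra.pow_mem _ hb _)

/-- **The coherent zeta function of a proper integral curve**, with a given affine cover. -/
theorem main_cover [Fintype k] [IsProper (Y ↘ Spec (CommRingCat.of k))] (hcov : U ⊔ W = ⊤)
    (hU : IsAffineOpen U) (hW : IsAffineOpen W) (D : Finset Y) (hUD : (U : Set Y) = (D : Set Y)ᶜ)
    (hDcl : ∀ x ∈ D, IsClosed ({x} : Set Y)) (hDW : ∀ x ∈ D, x ∈ W) (hD : D.Nonempty) (N : ℕ)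
    (hN : ∀ x : Y, IsClosed ({x} : Set Y) → FinFr.ptDeg (Y ↘ Spec (CommRingCat.of k)) x ≤ N → x ∈ D)
    (φ : Coh.toAb (Coh.structureModule Y) ⟶ Coh.toAb (Coh.structureModule Y))
    (hφ : ∀ (V : Y.Opens) (t : Γ(Y, V)), secMap φ V t = t ^ Fintype.card k)
    (T₀ : Hk k Y 0 →ₗ[k] Hk k Y 0) (hT₀ : ∀ x, T₀ x = mapHk k φ 0 x)
    (T₁ : Hk k Y 1 →ₗ[k] Hk k Y 1) (hT₁ : ∀ x, T₁ x = mapHk k φ 1 x) :
    (X : k[X]) ^ (N + 1) ∣ (∏ x ∈ D, (1 - X ^ FinFr.ptDeg (Y ↘ Spec (CommRingCat.of k)) x)) *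
      detRev T₁ - detRev T₀ := by
  classical
  have hJ : JacobsonSpace Y := LocallyOfFiniteType.jacobsonSpace (Y ↘ Spec (CommRingCat.of k))
  have hft : LocallyOfFiniteType (Y ↘ Spec (CommRingCat.of k)) := inferInstance
  have hloc : IsLocallyNoetherian Y := LocallyOfFiniteType.isLocallyNoetherian (Y ↘ Spec (CommRingCat.of k))
  have hNW : IsNoetherianRing Γ(Y, W) := IsLocallyNoetherian.component_noetherian ⟨W, hW⟩
  have hNA : IsNoetherianRing (A₂ k U W) := isNoetherianRing_of_ringEquiv Γ(Y, W) (e₂ k U W).toRingEquiv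
  have hfd1 : FiniteDimensional k (Hk k Y 1) := finite_Hk 1
  have hfd0 : FiniteDimensional k (Hk k Y 0) := finite_Hk 0
  have hfin : FiniteDimensional k (Γ(Y, U ⊓ W) ⧸
      (Subalgebra.toSubmodule (A₁ k U W) ⊔ Subalgebra.toSubmodule (A₂ k U W))) :=
    Module.Finite.equiv (equivH1 hcov hU hW).symm
  obtain ⟨x₀, hx₀⟩ := hD
  have key := CommAlg.main' (k := k) (A₁ k U W) (A₂ k U W) (ι := D) (fun i => mId k U W i.1 (hDW i.1 i.2))
    (fun i => isMaximal_mId hW i.1 _ (hDcl _ i.2))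
    (fun i j h => Subtype.ext (mId_injective hW _ _ h))
    (fun i => finite_mId hW i.1 _ (hDcl _ i.2))
    (fun b hb g hg => hbdd hW D hUD hDW b hb g (fun x hx => hg ⟨x, hx⟩))
    hfin
    (fun g hg₁ hg => hint hcov x₀ (hDW x₀ hx₀) g hg₁ (hg ⟨x₀, hx₀⟩))
    N
    (fun M hM _ => hnp hU N (fun x hx hcl => by
      by_contra hle
      have h1 := hN x hcl (not_lt.mp hle)
      have h2 : x ∈ (U : Set Y) := hx
      rw [hUD] at h2
      exact h2 h1) M hM)
    (hP inferInstance)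
  have e1 : ∏ i : D, (1 - (X : k[X]) ^ Module.finrank k (A₂ k U W ⧸ mId k U W i.1 (hDW i.1 i.2))) =
      ∏ x ∈ D, (1 - X ^ FinFr.ptDeg (Y ↘ Spec (CommRingCat.of k)) x) := by
    rw [← Finset.prod_coe_sort D]
    exact Finset.prod_congr rfl fun i _ => by rw [finrank_mId hW i.1 _ (hDcl _ i.2)]
  have e2 : detRev (frobQ _ (hP (k := k) (U := U) (W := W) inferInstance)) = detRev T₁ := by
    refine detRev_conj (equivH1 hcov hU hW) _ _ ?_
    intro x
    obtain ⟨s, rfl⟩ := Submodule.Quotient.mk_surjective _ x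
    rw [frobQ_mk, equivH1_mk, equivH1_mk, hT₁, mapHk_deltaA, hφ]
  have e3 : detRev T₀ = detRev (frob k (A₁ k U W ⊓ A₂ k U W : Subalgebra k Γ(Y, U ⊓ W))) := by
    refine detRev_conj ((H0L k Y).trans (equivTop hcov).toLinearEquiv) _ _ ?_
    intro x
    have h1 : H0L k Y (T₀ x) = (H0L k Y x) ^ Fintype.card k := by
      rw [H0L_apply, hT₀, H0add_map, hφ, H0L_apply]
    change equivTop hcov (H0L k Y (T₀ x)) = frob k _ (equivTop hcov (H0L k Y x))
    rw [h1, map_pow, frob_apply]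
  rw [e1, e2, ← e3] at key
  exact key

end Groth.Agent.Sga4h.H569.ZetaMain
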