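import Groth.Agent.Sga4h.H569.ZetaCurve
import Groth.Agent.Sga4h.H569.PolyTr
import Groth.Agent.Sga4h.H569.ResFin
import Groth.Agent.Sga4h.H883.TwoAff
import Groth.Agent.Sga4h.H913.ConstDet
import Groth.Agent.Sga4h.H157.ConstExt
import Groth.Agent.Sga4h.H911.LocConst
import Groth.Agent.Sga4h.H925.Defs

/-!
# The zeta function modulo `p` of a proper integral curve over a finite field of characteristic `p`
-/

set_option autoImplicit false

universe u

open CategoryTheory CategoryTheory.Limits AlgebraicGeometry Opposite TopologicalSpace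

namespace Groth.Agent.Sga4h.H569.ZetaP

open Polynomial
open Groth.Agent.Sga4h.H569.CohRings Groth.Agent.Sga4h.H569.DetRev Groth.Agent.Sga4h.H569.CohFrob
open Groth.Agent.Sga4h.H925.Defs

variable {k : Type u} [Field k] [Fintype k] (K : Type u) [Field K] [Algebra k K] [Algebra.IsAlgebraic k K]
  [IsAlgClosed K] [Fact FinFr.PullExact.{u}] (p : ℕ) [Fact p.Prime]

omit [Fintype k] [Algebra.IsAlgebraic k K] [IsAlgClosed K] [Fact FinFr.PullExact.{u}] [Fact p.Prime] in
theorem cast_zero_K [CharP k p] : (p : K) = 0 := by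
  rw [← map_natCast (algebraMap k K), CharP.cast_eq_zero, map_zero]

/-- the determinants of the Frobenius on `H^n(Y_K, ℤ/p)` and on `H^n(Y, O)` -/
theorem det_zmod' [CharP k p] {Y : Scheme.{u}} (b : Y ⟶ Spec (CommRingCat.of k)) [IsProper b] (n : ℕ) :
    letI : Y.Over (Spec (CommRingCat.of k)) := ⟨b⟩
    (detRev (T (qPow k Y) secMap_qPow n)).map (algebraMap k K) =
      (FinFr.charRev (FinFr.frob (K := K) b (FinFr.constLam (ZMod p) Y) n)).map
        (Groth.Agent.CurvesA.ASAlg.zmodHom K p (cast_zero_K K p (k := k))) := by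
  let _ : Y.Over (Spec (CommRingCat.of k)) := ⟨b⟩
  have : IsProper (Y ↘ Spec (CommRingCat.of k)) := ‹IsProper b›
  obtain ⟨f, -, hf⟩ := FiniteField.card k p
  have hqc : CompactSpace Y := QuasiCompact.compactSpace_of_compactSpace b
  have hqs : QuasiSeparatedSpace Y := quasiSeparatedSpace_of_quasiSeparated b
  exact H913.ConstDet.det_zmod (K := K) p (CharP.cast_eq_zero k p) (cast_zero_K K p (k := k)) f f.pos hf
    b (fun m => ZetaMain.finite_Hk m) (qPow k Y)
    (fun U a => secMap_qPow U.unop a) n (T (qPow k Y) secMap_qPow n) (fun x => rfl)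

theorem detRev_T_eq_one {Y : Scheme.{u}} [Y.Over (Spec (CommRingCat.of k))]
    [IsProper (Y ↘ Spec (CommRingCat.of k))] {U W : Y.Opens} (hcov : U ⊔ W = ⊤)
    (hU : IsAffineOpen U) (hW : IsAffineOpen W) (n : ℕ) (hn : 2 ≤ n) :
    detRev (T (qPow k Y) secMap_qPow n) = 1 := by
  have h2 : Subsingleton (Hk k Y n) :=
    H883.TwoAff.structureModule_subsingleton_over (Y ↘ Spec (CommRingCat.of k)) hU hW hcov n hn
  exact detRev_of_subsingleton _

end Groth.Agent.Sga4h.H569.ZetaP
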