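import Groth.Agent.Sga4h.H569.ZetaP
import Groth.Agent.Sga4h.H911.ClosedProd
import Groth.Agent.Sga4h.H911.FinAux
import Groth.Agent.Sga4h.H911.DefectOf

/-!
# The L-function identity for constant sheaves modulo `p` on a proper integral curve over a finite field of
characteristic `p`
-/

set_option autoImplicit false

universe u

open CategoryTheory CategoryTheory.Limits AlgebraicGeometry Opposite TopologicalSpace

namespace Groth.Agent.Sga4h.H569.ZetaPFin

open Polynomial
open Groth.Agent.Sga4h.H569.CohRings Groth.Agent.Sga4h.H569.DetRev Groth.Agent.Sga4h.H569.CohFrob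
open Groth.Agent.Sga4h.H569.ZetaP Groth.Agent.Sga4h.H925.Defs Groth.Agent.CurvesA.ASAlg

variable {k : Type u} [Field k] [Fintype k] (K : Type u) [Field K] [Algebra k K] [Algebra.IsAlgebraic k K]
  [IsAlgClosed K] [Fact FinFr.PullExact.{u}] (p : ℕ) [Fact p.Prime] [CharP k p]
  {Y : Scheme.{u}} (b : Y ⟶ Spec (CommRingCat.of k)) [IsProper b] [IsIntegral Y]

/-- `det(1 - X F | H^i(Y_K, ℤ/p)) = 1` for `i ≥ 2`. -/
theorem charRev_eq_one (hdim : topologicalKrullDim Y = 1) (i : ℕ) (hi : 2 ≤ i) :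
    FinFr.charRev (FinFr.frob (K := K) b (FinFr.constLam (ZMod p) Y) i) = 1 := by
  let _ : Y.Over (Spec (CommRingCat.of k)) := ⟨b⟩
  have : IsProper (Y ↘ Spec (CommRingCat.of k)) := ‹IsProper b›
  obtain ⟨D, y, U, W, -, -, -, -, -, -, -, hU, hW, hcov⟩ :=
    H883.CurveCover.exists_cover (Y ↘ Spec (CommRingCat.of k)) hdim ∅ Set.finite_empty (fun x hx => hx.elim)
  have h1 := det_zmod' K p b i
  rw [detRev_T_eq_one hcov hU hW i hi, Polynomial.map_one] at h1
  refine Polynomial.map_injective (zmodHom K p (cast_zero_K K p (k := k))) (RingHom.injective _) ?_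
  rw [Polynomial.map_one]
  exact h1.symm

/-- the zeta function with coefficients mapped to `Λ` -/
theorem zeta_zmod (hdim : topologicalKrullDim Y = 1) (Λ : Type) [Field Λ] (h : ZMod p →+* Λ) (N : ℕ)
    (hfin : Finite {x : FinFr.ClosedPt Y // FinFr.ptDeg b x.1 ≤ N}) (m : ℕ) (hm : m ≤ N) :
    ((∏ᶠ x : {x : FinFr.ClosedPt Y // FinFr.ptDeg b x.1 ≤ N}, (1 - (X : Λ[X]) ^ FinFr.ptDeg b x.1.1)) *
      (FinFr.charRev (FinFr.frob (K := K) b (FinFr.constLam (ZMod p) Y) 1)).map h).coeff m =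
      ((FinFr.charRev (FinFr.frob (K := K) b (FinFr.constLam (ZMod p) Y) 0)).map h).coeff m := by
  let _ : Y.Over (Spec (CommRingCat.of k)) := ⟨b⟩
  have : IsProper (Y ↘ Spec (CommRingCat.of k)) := ‹IsProper b›
  exact PolyTr.coeff_transport (algebraMap k K) (zmodHom K p (cast_zero_K K p (k := k))) h
    (fun x : {x : FinFr.ClosedPt Y // FinFr.ptDeg b x.1 ≤ N} => FinFr.ptDeg b x.1.1)
    (det_zmod' K p b 1) (det_zmod' K p b 0) N
    (fun m hm => ZetaCurve.zeta_coh hdim N hfin (qPow k Y) secMap_qPow _ (fun x => rfl) _ (fun x => rfl) m hm) m hm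

variable (Λ : Type) [Field Λ] [Finite Λ] [CharP Λ p]

include p in
/-- **The L-function identity for the constant sheaf, characteristic `p`.** -/
theorem LFn_const (hdim : topologicalKrullDim Y = 1) (n N : ℕ) (hn : n ≤ N) :
    H911.DefectOf.LFn K b (FinFr.constLam Λ Y) n N := by
  have hfin : Finite {x : FinFr.ClosedPt Y // FinFr.ptDeg b x.1 ≤ N} := H911.ClosedProd.finite_closedLE k K b N
  have hc : ∀ i, FinFr.charRev (frobK K b (FinFr.constLam Λ Y) i) =
      (FinFr.charRev (FinFr.frob (K := K) b (FinFr.constLam (ZMod p) Y) i)).map (ZMod.castHom (dvd_refl p) Λ) :=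
    fun i => H157.ConstExt.charRev_frob_zmod p Λ b i
  have h3 : ∀ i, 2 < i → FinFr.charRev (frobK K b (FinFr.constLam Λ Y) i) = 1 := fun i hi => by
    rw [hc, charRev_eq_one K p b hdim i hi.le, Polynomial.map_one]
  have hloc : ∀ x : {x : FinFr.ClosedPt Y // FinFr.ptDeg b x.1 ≤ N},
      FinFr.locFactor b x.1.1 (FinFr.constLam Λ Y) = 1 - (X : Λ[X]) ^ FinFr.ptDeg b x.1.1 := by
    intro x
    have := ResFin.finite_residueField b x.1.1 x.1.2
    exact H911.LocConst.locFactor_const Λ b x.1.1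
  intro m hm
  rw [H911.FinAux.finprod_odd (fun i => FinFr.charRev (frobK K b (FinFr.constLam Λ Y) i)) h3,
    H911.FinAux.finprod_even (fun i => FinFr.charRev (frobK K b (FinFr.constLam Λ Y) i)) h3, Finset.prod_singleton,
    Finset.prod_pair (by norm_num), finprod_congr hloc, hc 1, hc 0, hc 2, charRev_eq_one K p b hdim 2 le_rfl,
    Polynomial.map_one, mul_one, mul_comm]
  exact zeta_zmod K p b hdim Λ (ZMod.castHom (dvd_refl p) Λ) N hfin m (hm.trans hn)

include p in
/-- **The vanishing of the defect of the determinants for the constant sheaf, characteristic `p`**, for an integral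
curve. -/
theorem defect_const (hdim : topologicalKrullDim Y = 1) (n N : ℕ) (hn : n ≤ N) (m₀ : ℕ)
    (hm₀ : ∀ i, m₀ ≤ i → Subsingleton (HK K b (FinFr.constLam Λ Y) i))
    (hloc : ∀ x : Y, IsClosed ({x} : Set Y) →
      FinFr.charRev (frobK K (Y.fromSpecResidueField x ≫ b)
        (EtLam.pullback (Y.fromSpecResidueField x) (FinFr.constLam Λ Y)) 0) =
        FinFr.locFactor b x (FinFr.constLam Λ Y)) :
    defect K (detInvN Λ n) b N (FinFr.constLam Λ Y) = 0 :=
  H911.DefectOf.defect_of_LFn K b (FinFr.constLam Λ Y) n N m₀ hm₀ (H911.ClosedProd.finite_closedLE k K b N) hloc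
    (LFn_const K p b Λ hdim n N hn)

end Groth.Agent.Sga4h.H569.ZetaPFin
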