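import Groth.Agent.Sga4h.H569.ZetaPFin
import Groth.Agent.Sga4h.H157.VanP
import Groth.Agent.Sga4h.H927.CycInv
import Groth.Agent.Sga4h.H911.ConstFib

/-!
# The constant case of the L-function formula on integral smooth proper curves, characteristic `p`
-/

set_option autoImplicit false

universe u

open CategoryTheory CategoryTheory.Limits AlgebraicGeometry Opposite TopologicalSpace

namespace Groth.Agent.Sga4h.H569.ZetaPMain

open Groth.Agent.Sga4h.H569.CohRings Groth.Agent.Sga4h.H925.Defs

variable {k : Type u} [Field k] [Fintype k] (K : Type u) [Field K] [Algebra k K] [Algebra.IsAlgebraic k K]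
  [IsAlgClosed K] [Fact FinFr.PullExact.{u}] (p : ℕ) [Fact p.Prime] [CharP k p]
  {Y : Scheme.{u}} (b : Y ⟶ Spec (CommRingCat.of k)) [IsProper b] [IsIntegral Y]
  (Λ : Type) [Field Λ] [Finite Λ] [CharP Λ p]

include p in
theorem subsingleton_HK (hdim : topologicalKrullDim Y = 1) (i : ℕ) (hi : 2 ≤ i) :
    Subsingleton (HK K b (FinFr.constLam Λ Y) i) := by
  let _ : Y.Over (Spec (CommRingCat.of k)) := ⟨b⟩
  have : IsProper (Y ↘ Spec (CommRingCat.of k)) := ‹IsProper b›
  obtain ⟨D, y, U, W, -, -, -, -, -, -, -, hU, hW, hcov⟩ :=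
    H883.CurveCover.exists_cover (Y ↘ Spec (CommRingCat.of k)) hdim ∅ Set.finite_empty (fun x hx => hx.elim)
  have hqc : CompactSpace Y := QuasiCompact.compactSpace_of_compactSpace b
  have hqs : QuasiSeparatedSpace Y := quasiSeparatedSpace_of_quasiSeparated b
  have h2 : Subsingleton (Coh.HH Y (Coh.structureModule Y) i) :=
    H883.TwoAff.structureModule_subsingleton_over (Y ↘ Spec (CommRingCat.of k)) hU hW hcov i hi
  exact H157.VanP.subsingleton_HK (K := K) p (CharP.cast_eq_zero k p) (ZetaP.cast_zero_K K p (k := k)) Λ b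
    (fun m => ZetaMain.finite_Hk m) i h2

theorem hloc_const [LocallyOfFiniteType b] (x : Y) (hx : IsClosed ({x} : Set Y)) :
    FinFr.charRev (frobK K (Y.fromSpecResidueField x ≫ b) (EtLam.pullback (Y.fromSpecResidueField x) (FinFr.constLam Λ Y)) 0) =
      FinFr.locFactor b x (FinFr.constLam Λ Y) := by
  have := ResFin.finite_residueField b x hx
  exact H927.CycInv.charRev_frobK K b x _ (H911.ConstFib.finFib_const Λ Y)

include p in
/-- the constant case, integral proper curves -/
theorem defect_const_of_dim (hdim : topologicalKrullDim Y = 1) (n N : ℕ) (hn : n ≤ N) :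
    defect K (detInvN Λ n) b N (FinFr.constLam Λ Y) = 0 :=
  ZetaPFin.defect_const K p b Λ hdim n N hn 2 (subsingleton_HK K p b Λ hdim) (hloc_const K b Λ)

include p in
/-- **The constant case of the L-function formula on integral smooth proper curves, characteristic `p`.** -/
theorem defect_const [SmoothOfRelativeDimension 1 b] (n N : ℕ) (hn : n ≤ N) :
    defect K (detInvN Λ n) b N (FinFr.constLam Λ Y) = 0 :=
  defect_const_of_dim K p b Λ (H883.CurveCover.curve_dim b) n N hn

end Groth.Agent.Sga4h.H569.ZetaPMain
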