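import Groth.Agent.Sga4h.H569.CohRings
import Mathlib.RingTheory.Jacobson.Ring

/-!
# Residue fields of closed points of affine opens
-/

set_option autoImplicit false
set_option linter.unusedSectionVars false

universe u

open CategoryTheory CategoryTheory.Limits AlgebraicGeometry Opposite TopologicalSpace

namespace Groth.Agent.Sga4h.H569.ZetaPts

open Groth.Agent.Sga4h.H569.CurvePts Groth.Agent.Sga4h.H569.CohRings

attribute [local instance] algΓ

variable {k : Type u} [Field k] {Y : Scheme.{u}} [Y.Over (Spec (CommRingCat.of k))]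

/-- the ideal of sections vanishing at a point -/
noncomputable def kerEv {Y : Scheme.{u}} (V : Y.Opens) (x : Y) (hx : x ∈ V) : Ideal Γ(Y, V) :=
  RingHom.ker (Y.evaluation V x hx).hom

theorem mem_kerEv (V : Y.Opens) (x : Y) (hx : x ∈ V) (s : Γ(Y, V)) :
    s ∈ kerEv V x hx ↔ (Y.evaluation V x hx).hom s = 0 := Iff.rfl

theorem mem_kerEv_iff (V : Y.Opens) (x : Y) (hx : x ∈ V) (s : Γ(Y, V)) :
    s ∈ kerEv V x hx ↔ x ∉ Y.basicOpen s :=
  Scheme.evaluation_eq_zero_iff_notMem_basicOpen Y x hx s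

/-- the residue field with its structure of `k`-algebra -/
noncomputable abbrev algκ (k : Type u) [Field k] {Y : Scheme.{u}} [Y.Over (Spec (CommRingCat.of k))] (x : Y) :
    Algebra k (Y.residueField x) := (FinFr.resAlgHom (Y ↘ Spec (CommRingCat.of k)) x).toAlgebra

attribute [local instance] algκ

theorem ptDeg_eq (x : Y) : FinFr.ptDeg (Y ↘ Spec (CommRingCat.of k)) x = Module.finrank k (Y.residueField x) := rfl

/-- evaluation as a `k`-algebra homomorphism -/
noncomputable def evA (k : Type u) [Field k] {Y : Scheme.{u}} [Y.Over (Spec (CommRingCat.of k))] (V : Y.Opens)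
    (x : Y) (hx : x ∈ V) : Γ(Y, V) →ₐ[k] Y.residueField x :=
  { (Y.evaluation V x hx).hom with
    commutes' := fun c => congr($(evaluation_kΓ (Y ↘ Spec (CommRingCat.of k)) V x hx) c) }

/-- `Γ(V)/ker = κ(x)` -/
noncomputable def quotEquiv {V : Y.Opens} (hV : IsAffineOpen V) (x : Y) (hx : x ∈ V)
    (hcl : IsClosed ({x} : Set Y)) : (Γ(Y, V) ⧸ kerEv V x hx) ≃ₐ[k] Y.residueField x :=
  Ideal.quotientKerAlgEquivOfSurjective (f := evA k V x hx) (evaluation_surjective hV x hx hcl)

theorem finrank_quot {V : Y.Opens} (hV : IsAffineOpen V) (x : Y) (hx : x ∈ V)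
    (hcl : IsClosed ({x} : Set Y)) :
    Module.finrank k (Γ(Y, V) ⧸ kerEv V x hx) = FinFr.ptDeg (Y ↘ Spec (CommRingCat.of k)) x :=
  (quotEquiv (k := k) hV x hx hcl).toLinearEquiv.finrank_eq

theorem finite_quot [LocallyOfFiniteType (Y ↘ Spec (CommRingCat.of k))] {V : Y.Opens} (hV : IsAffineOpen V)
    (M : Ideal Γ(Y, V)) [hM : M.IsMaximal] : FiniteDimensional k (Γ(Y, V) ⧸ M) := by
  have h1 : Algebra.FiniteType k Γ(Y, V) := by
    have h2 : (kΓ (Y ↘ Spec (CommRingCat.of k)) V).FiniteType := by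
      have h3 : ((Y ↘ Spec (CommRingCat.of k)).appLE ⊤ V le_top).hom.FiniteType :=
        LocallyOfFiniteType.finiteType_appLE _ (isAffineOpen_top _) hV _
      have h4 : kΓ (Y ↘ Spec (CommRingCat.of k)) V =
          ((Y ↘ Spec (CommRingCat.of k)).appLE ⊤ V le_top).hom.comp
            (Scheme.ΓSpecIso (CommRingCat.of k)).inv.hom := rfl
      rw [h4]
      exact h3.comp (RingHom.FiniteType.of_surjective _
        (Scheme.ΓSpecIso (CommRingCat.of k)).symm.commRingCatIsoToRingEquiv.surjective)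
    exact h2
  have h2 : Algebra.FiniteType k (Γ(Y, V) ⧸ M) := inferInstance
  let _ : Field (Γ(Y, V) ⧸ M) := Ideal.Quotient.field M
  exact finite_of_finite_type_of_isJacobsonRing k (Γ(Y, V) ⧸ M)

theorem kerEv_injective {V : Y.Opens} (hV : IsAffineOpen V) {x x' : Y} (hx : x ∈ V) (hx' : x' ∈ V)
    (h : kerEv V x hx = kerEv V x' hx') : x = x' := by
  have h1 : hV.primeIdealOf ⟨x, hx⟩ = hV.primeIdealOf ⟨x', hx'⟩ := by
    apply PrimeSpectrum.ext
    ext f
    rw [mem_primeIdealOf_iff, mem_primeIdealOf_iff, ← mem_kerEv, ← mem_kerEv, h]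
  have h2 := congrArg (fun y => hV.fromSpec y) h1
  simp only [IsAffineOpen.fromSpec_primeIdealOf] at h2
  exact h2

/-- global functions vanishing at a point vanish -/
theorem eq_zero_of_evaluation [IsIntegral Y] (hfd : FiniteDimensional k Γ(Y, ⊤)) (t : Γ(Y, ⊤)) (x : Y)
    (ht : x ∉ Y.basicOpen t) : t = 0 := by
  by_contra hne
  have h1 : IsField Γ(Y, ⊤) := by
    refine isField_of_isIntegral_of_isField' (R := k) ?_
    exact Field.toIsField k
  obtain ⟨v, hv⟩ := h1.mul_inv_cancel hne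
  have h2 : IsUnit t := IsUnit.of_mul_eq_one _ hv
  apply ht
  rw [Y.basicOpen_of_isUnit h2]
  trivial

end Groth.Agent.Sga4h.H569.ZetaPts
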